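import Cfsg.Agent.Lib.Spor.Cos.HNSub.DdData

/-! Checks of the facts of a coset enumeration. -/

set_option autoImplicit false
set_option maxRecDepth 100000
set_option maxHeartbeats 4000000

namespace Cfsg.Agent.Spor.Cos.HNSub

theorem dd_part0 : dd.chkPartP 47 96 [(32, 0xd800025000378000500002602018000500c0200035000078000d20009700048804080001004008000d000021000358000380001a02018000380c0200033000030000c20000100003804080000804008000c8000120003180001c000bc0102000010100200031000054000ca0000200000808060000203008000c00000f000338001780000402018000000c020002e000020005601004000b4000080015004010002c000020005201004000ac00008001400401000260000200046010040009400008001100401000240000200042010040008c000080010004010001e0000200036010040007400008000d004010001c0000200032010040006c00008000c00401000160000200026010040005400008000900401000140000200022010040004c000080008004010000e00002000160100400034000080005004010000c0000200010010040002c000080003804010000800002000080100400014000080001004010000400002000020100400008000080000004010000080001c0000402008000000400), (16, 0xc80009400036000094000ec000a60003e0001140010c000b6000460001580009c000460001f0000d80005c000260000f00005800018000040000182c18000040c00c000c40001500037000278000e8000350003f0002b80010800055000470001600016000048000540000e000140000280004c00006000120000100000302c18000020c00c000c00000f00035000268000e0000310003d0002a8001000005100045000168000a40004a000210000e8000640002a0001100006800024000080000002c18000000c00c0010c00052000428002bc0015a01020001181002000420001540010e0004400021808060004403008001040004e000408002ac00152010200010810020004000014400106000400001f808060004003008000fc000420003e80029c0014a01020000d810020003e000114000fe0003400019808060003403008000f40003e0003c80028c0014201020000c810020003c000104000f60003000017808060003003008000ec000320003a80027c0013a010200009810020003a0000d4000ee0002400011808060002403008000e40002e0003880026c0013201020000881002000380000c4000e6000200000f808060002003008000dc00022000368002540012601020000581002),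 (1, 0x33000258000d00002100039000288000f000041000410002c8001100005c0005a000130001580003c000520000b0001380001c00049000028000be0b060000203003)] = true := by decide +kernel

end Cfsg.Agent.Spor.Cos.HNSub
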