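import Cfsg.Agent.Lib.Spor.Cos.PairStep
import Cfsg.Agent.Lib.Spor.Cos.HNSub.DdPart0

/-! A checked coset enumeration. -/

set_option autoImplicit false
set_option maxRecDepth 100000
set_option maxHeartbeats 4000000

namespace Cfsg.Agent.Spor.Cos.HNSub

theorem dd_def0 : allBlock dd.chkDef 47 512 0 = true := by decide +kernel

theorem dd_defs : ∀ i, i + 1 < dd.M → dd.chkDef i = true := by
  intro i hi
  change i + 1 < 48 at hi
  refine of_allBlock (n := 47) (size := 512) (by decide) (fun j hj => ?_) (by omega)
  have hj' : j < 1 := by omega
  interval_cases j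
  · exact dd_def0

theorem dd_facts : ∀ i, dd.M ≤ i + 1 → i < dd.nF → ∃ J, dd.chkFactP i J = true := by
  exact dd.facts_of_coversP (dd.covers_of_partP _ _ _ dd_part0) rfl rfl

theorem dd_final0 : allBlock dd.chkFinalP 192 512 0 = true := by decide +kernel

theorem dd_checks : dd.ChecksP where
  pos := by decide +kernel
  defs := dd_defs
  facts := dd_facts
  final := by
    intro k hk
    change k < 48 * 4 at hk
    refine of_allBlock (n := 192) (size := 512) (by decide) (fun j hj => ?_) (by omega)
    have hj' : j < 1 := by omega
    interval_cases j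
    · exact dd_final0

theorem dd_derived : dd.rels.all (derivedP ddBase) = true := by decide +kernel

end Cfsg.Agent.Spor.Cos.HNSub
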