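import Cfsg.Agent.Lib.Spor.Cos.HNSub.HhData

/-! Checks of the facts of a coset enumeration. -/

set_option autoImplicit false
set_option maxRecDepth 100000
set_option maxHeartbeats 4000000

namespace Cfsg.Agent.Spor.Cos.HNSub

theorem hh_part0 : hh.chkPartP 23 48 [(25, 0x13800110000a6010100008008010000b8000d8000a2010100004008010002c800154000ae03000000a00000000198000540008200025000268000980003c00016000070000100000605030000101802000068000e80003a000460001680012c000880003f0001b0000e40001005030000081802000038001440003200053000148000a8000440001a0000900002800000050300000018020000f8001140004001010000600800000078000dc0002001010000180800000160000880004a00018000980c01000158001200008c01010000900801000140000780004200018000880c010000e00006c0004a030000007800010002000010800044020080007004010000c00005c00042030000006800010000e0000480002a00018000580c010000d8000f000074010100005008010000c0000380002200018000480c010000600002c0002a03000000380001000190000d000024020080003004010000300000c0005e00018000280c01000030000140002203000000200001000060000000000600018000100c01000058000bc0001001010000080801000028000200000001010000000801000008000240000402008000000400)] = true := by decide +kernel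

end Cfsg.Agent.Spor.Cos.HNSub
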