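import Cfsg.Agent.Lib.Spor.Cos.PairStep
import Cfsg.Agent.Lib.Spor.Cos.HNSub.HhPart0

/-! A checked coset enumeration. -/

set_option autoImplicit false
set_option maxRecDepth 100000
set_option maxHeartbeats 4000000

namespace Cfsg.Agent.Spor.Cos.HNSub

theorem hh_def0 : allBlock hh.chkDef 23 512 0 = true := by decide +kernel

theorem hh_defs : ∀ i, i + 1 < hh.M → hh.chkDef i = true := by
  intro i hi
  change i + 1 < 24 at hi
  refine of_allBlock (n := 23) (size := 512) (by decide) (fun j hj => ?_) (by omega)
  have hj' : j < 1 := by omega
  interval_cases j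
  · exact hh_def0

theorem hh_facts : ∀ i, hh.M ≤ i + 1 → i < hh.nF → ∃ J, hh.chkFactP i J = true := by
  exact hh.facts_of_coversP (hh.covers_of_partP _ _ _ hh_part0) rfl rfl

theorem hh_final0 : allBlock hh.chkFinalP 96 512 0 = true := by decide +kernel

theorem hh_checks : hh.ChecksP where
  pos := by decide +kernel
  defs := hh_defs
  facts := hh_facts
  final := by
    intro k hk
    change k < 24 * 4 at hk
    refine of_allBlock (n := 96) (size := 512) (by decide) (fun j hj => ?_) (by omega)
    have hj' : j < 1 := by omega
    interval_cases j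
    · exact hh_final0

theorem hh_derived : hh.rels.all (derivedP hhBase) = true := by decide +kernel

end Cfsg.Agent.Spor.Cos.HNSub
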