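import Cfsg.Agent.Lib.Spor.Cos.PairStep
import Cfsg.Agent.Lib.Spor.Cos.HNSub.LcPart0
import Cfsg.Agent.Lib.Spor.Cos.HNSub.LcPart1
import Cfsg.Agent.Lib.Spor.Cos.HNSub.LcPart2

/-! A checked coset enumeration. -/

set_option autoImplicit false
set_option maxRecDepth 100000
set_option maxHeartbeats 4000000

namespace Cfsg.Agent.Spor.Cos.HNSub

theorem lc_def0 : allBlock lc.chkDef 22611 512 0 = true := by decide +kernel

theorem lc_def1 : allBlock lc.chkDef 22611 512 1 = true := by decide +kernel

theorem lc_def2 : allBlock lc.chkDef 22611 512 2 = true := by decide +kernel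

theorem lc_def3 : allBlock lc.chkDef 22611 512 3 = true := by decide +kernel

theorem lc_def4 : allBlock lc.chkDef 22611 512 4 = true := by decide +kernel

theorem lc_def5 : allBlock lc.chkDef 22611 512 5 = true := by decide +kernel

theorem lc_def6 : allBlock lc.chkDef 22611 512 6 = true := by decide +kernel

theorem lc_def7 : allBlock lc.chkDef 22611 512 7 = true := by decide +kernel

theorem lc_def8 : allBlock lc.chkDef 22611 512 8 = true := by decide +kernel

theorem lc_def9 : allBlock lc.chkDef 22611 512 9 = true := by decide +kernel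

theorem lc_def10 : allBlock lc.chkDef 22611 512 10 = true := by decide +kernel

theorem lc_def11 : allBlock lc.chkDef 22611 512 11 = true := by decide +kernel

theorem lc_def12 : allBlock lc.chkDef 22611 512 12 = true := by decide +kernel

theorem lc_def13 : allBlock lc.chkDef 22611 512 13 = true := by decide +kernel

theorem lc_def14 : allBlock lc.chkDef 22611 512 14 = true := by decide +kernel

theorem lc_def15 : allBlock lc.chkDef 22611 512 15 = true := by decide +kernel

theorem lc_def16 : allBlock lc.chkDef 22611 512 16 = true := by decide +kernel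

theorem lc_def17 : allBlock lc.chkDef 22611 512 17 = true := by decide +kernel

theorem lc_def18 : allBlock lc.chkDef 22611 512 18 = true := by decide +kernel

theorem lc_def19 : allBlock lc.chkDef 22611 512 19 = true := by decide +kernel

theorem lc_def20 : allBlock lc.chkDef 22611 512 20 = true := by decide +kernel

theorem lc_def21 : allBlock lc.chkDef 22611 512 21 = true := by decide +kernel

theorem lc_def22 : allBlock lc.chkDef 22611 512 22 = true := by decide +kernel

theorem lc_def23 : allBlock lc.chkDef 22611 512 23 = true := by decide +kernel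

theorem lc_def24 : allBlock lc.chkDef 22611 512 24 = true := by decide +kernel

theorem lc_def25 : allBlock lc.chkDef 22611 512 25 = true := by decide +kernel

theorem lc_def26 : allBlock lc.chkDef 22611 512 26 = true := by decide +kernel

theorem lc_def27 : allBlock lc.chkDef 22611 512 27 = true := by decide +kernel

theorem lc_def28 : allBlock lc.chkDef 22611 512 28 = true := by decide +kernel

theorem lc_def29 : allBlock lc.chkDef 22611 512 29 = true := by decide +kernel

theorem lc_def30 : allBlock lc.chkDef 22611 512 30 = true := by decide +kernel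

theorem lc_def31 : allBlock lc.chkDef 22611 512 31 = true := by decide +kernel

theorem lc_def32 : allBlock lc.chkDef 22611 512 32 = true := by decide +kernel

theorem lc_def33 : allBlock lc.chkDef 22611 512 33 = true := by decide +kernel

theorem lc_def34 : allBlock lc.chkDef 22611 512 34 = true := by decide +kernel

theorem lc_def35 : allBlock lc.chkDef 22611 512 35 = true := by decide +kernel

theorem lc_def36 : allBlock lc.chkDef 22611 512 36 = true := by decide +kernel

theorem lc_def37 : allBlock lc.chkDef 22611 512 37 = true := by decide +kernel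

theorem lc_def38 : allBlock lc.chkDef 22611 512 38 = true := by decide +kernel

theorem lc_def39 : allBlock lc.chkDef 22611 512 39 = true := by decide +kernel

theorem lc_def40 : allBlock lc.chkDef 22611 512 40 = true := by decide +kernel

theorem lc_def41 : allBlock lc.chkDef 22611 512 41 = true := by decide +kernel

theorem lc_def42 : allBlock lc.chkDef 22611 512 42 = true := by decide +kernel

theorem lc_def43 : allBlock lc.chkDef 22611 512 43 = true := by decide +kernel

theorem lc_def44 : allBlock lc.chkDef 22611 512 44 = true := by decide +kernel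

theorem lc_defs : ∀ i, i + 1 < lc.M → lc.chkDef i = true := by
  intro i hi
  change i + 1 < 22612 at hi
  refine of_allBlock (n := 22611) (size := 512) (by decide) (fun j hj => ?_) (by omega)
  have hj' : j < 45 := by omega
  interval_cases j
  · exact lc_def0
  · exact lc_def1
  · exact lc_def2
  · exact lc_def3
  · exact lc_def4
  · exact lc_def5
  · exact lc_def6
  · exact lc_def7
  · exact lc_def8
  · exact lc_def9
  · exact lc_def10
  · exact lc_def11
  · exact lc_def12
  · exact lc_def13
  · exact lc_def14
  · exact lc_def15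
  · exact lc_def16
  · exact lc_def17
  · exact lc_def18
  · exact lc_def19
  · exact lc_def20
  · exact lc_def21
  · exact lc_def22
  · exact lc_def23
  · exact lc_def24
  · exact lc_def25
  · exact lc_def26
  · exact lc_def27
  · exact lc_def28
  · exact lc_def29
  · exact lc_def30
  · exact lc_def31
  · exact lc_def32
  · exact lc_def33
  · exact lc_def34
  · exact lc_def35
  · exact lc_def36
  · exact lc_def37
  · exact lc_def38
  · exact lc_def39
  · exact lc_def40
  · exact lc_def41
  · exact lc_def42
  · exact lc_def43
  · exact lc_def44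

theorem lc_facts : ∀ i, lc.M ≤ i + 1 → i < lc.nF → ∃ J, lc.chkFactP i J = true := by
  exact lc.facts_of_coversP (Log.CoversP.trans lc (Log.CoversP.trans lc (Log.CoversP.trans lc (Log.CoversP.trans lc (lc.covers_of_partP _ _ _ lc_part0) (Log.CoversP.trans lc (lc.covers_of_partP _ _ _ lc_part1) (lc.covers_of_partP _ _ _ lc_part2))) (Log.CoversP.trans lc (lc.covers_of_partP _ _ _ lc_part3) (Log.CoversP.trans lc (lc.covers_of_partP _ _ _ lc_part4) (lc.covers_of_partP _ _ _ lc_part5)))) (Log.CoversP.trans lc (Log.CoversP.trans lc (lc.covers_of_partP _ _ _ lc_part6) (Log.CoversP.trans lc (lc.covers_of_partP _ _ _ lc_part7) (lc.covers_of_partP _ _ _ lc_part8))) (Log.CoversP.trans lc (lc.covers_of_partP _ _ _ lc_part9) (Log.CoversP.trans lc (lc.covers_of_partP _ _ _ lc_part10) (lc.covers_of_partP _ _ _ lc_part11))))) (Log.CoversP.trans lc (Log.CoversP.trans lc (Log.CoversP.trans lc (lc.covers_of_partP _ _ _ lc_part12) (Log.CoversP.trans lc (lc.covers_of_partP _ _ _ lc_part13) (lc.covers_of_partP _ _ _ lc_part14))) (Log.CoversP.trans lc (lc.covers_of_partP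 _ _ _ lc_part15) (Log.CoversP.trans lc (lc.covers_of_partP _ _ _ lc_part16) (lc.covers_of_partP _ _ _ lc_part17)))) (Log.CoversP.trans lc (Log.CoversP.trans lc (lc.covers_of_partP _ _ _ lc_part18) (Log.CoversP.trans lc (lc.covers_of_partP _ _ _ lc_part19) (lc.covers_of_partP _ _ _ lc_part20))) (Log.CoversP.trans lc (Log.CoversP.trans lc (lc.covers_of_partP _ _ _ lc_part21) (lc.covers_of_partP _ _ _ lc_part22)) (Log.CoversP.trans lc (lc.covers_of_partP _ _ _ lc_part23) (lc.covers_of_partP _ _ _ lc_part24)))))) rfl rfl

/-- The scans of the goal words of `lc`. -/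
def lcLoops : List (List ℕ × ℕ × ℕ) := [
  ([1, 3, 3, 1, 3, 3, 1, 3, 3, 1, 2, 2, 2, 2, 0, 3, 3, 0, 3, 3, 0, 3, 3, 0, 3, 3, 1, 2, 2, 2, 2, 0, 3, 3], 34, 0x2000030585d02c2fc161640b0e00000c0002540012e0009905a6d0006e4003760bc6e006568032bc1ae840226501133850dd0006d00c7f4004230020d0166820006d0003782c4a00004a0b0af0585680000c161520b0a7),
  ([1, 3, 3, 1, 3, 3, 1, 3, 3, 1, 2, 2, 1, 3, 3, 1, 3, 3, 1, 3, 3, 1, 2, 2, 1, 3, 3, 0, 3, 3, 0, 3, 3, 0, 2, 2, 0, 3, 3, 0, 3, 3, 0, 3, 3, 1, 2, 2], 48, 0x58540000080002a000270001d82c6b8000ba0005f059760015f400afe0cd9c09f1f00acc802c0e0160905bfa00044002bde0b7d105bf10056c402dde140a301382050250032320191b00c8e8502c007d8603ec50699e032114190780c839004230020d0166820006d0003782c4a00004a0b0af0585680000c161520b0a7),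
  ([1, 3, 3, 1, 3, 3, 3, 3, 0, 3, 3, 0, 2, 2, 0, 3, 3, 0, 2, 2, 0, 3, 3, 0, 2, 2, 1, 3, 3, 1, 2, 2, 1, 3, 3, 1, 2, 2], 38, 0x16150000020000a80009c000760005b058d982c6e800668007af003e083196418d120c68e0728c8510f422cde1444f08b370510f0075aa0c68f0634403196000f80007ae0019a82c6ec163640005a0589200008c0004a0b0af0585680000c161520b0a7)]

theorem lc_loops : (lcLoops.all fun o => lc.walkP lc.nF 0 o.2.1 o.2.2 0 o.1) = true := by decide +kernel


theorem lc_derived : lc.rels.all (derivedP lcBase) = true := by decide +kernel

end Cfsg.Agent.Spor.Cos.HNSub
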