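import Cfsg.Agent.Lib.Spor.Cos.PairStep
import Cfsg.Agent.Lib.Spor.Cos.HNSub.LwPart0

/-! A checked coset enumeration. -/

set_option autoImplicit false
set_option maxRecDepth 100000
set_option maxHeartbeats 4000000

namespace Cfsg.Agent.Spor.Cos.HNSub

theorem lw_def0 : allBlock lw.chkDef 347 512 0 = true := by decide +kernel

theorem lw_defs : ∀ i, i + 1 < lw.M → lw.chkDef i = true := by
  intro i hi
  change i + 1 < 348 at hi
  refine of_allBlock (n := 347) (size := 512) (by decide) (fun j hj => ?_) (by omega)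
  have hj' : j < 1 := by omega
  interval_cases j
  · exact lw_def0

theorem lw_facts : ∀ i, lw.M ≤ i + 1 → i < lw.nF → ∃ J, lw.chkFactP i J = true := by
  exact lw.facts_of_coversP (lw.covers_of_partP _ _ _ lw_part0) rfl rfl

/-- The scans of the goal words of `lw`. -/
def lwLoops : List (List ℕ × ℕ × ℕ) := [
  ([0, 2, 0, 3, 0, 2, 0, 3, 0, 2, 0, 3, 0, 2, 0, 3, 0, 2, 0, 3, 0, 2, 0, 3], 24, 0x15b8000040000e0000900187001030001c0004120002d801070001b00042000031801094001a0002e4000358001b4000de0007100039800b040057e002b9),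
  ([0, 0, 2, 1, 3, 2, 1, 3], 8, 0x15b800ae0000ea0007400002000aec0000a002b9)]

theorem lw_loops : (lwLoops.all fun o => lw.walkP lw.nF 0 o.2.1 o.2.2 0 o.1) = true := by decide +kernel


theorem lw_derived : lw.rels.all (derivedP lwBase) = true := by decide +kernel

end Cfsg.Agent.Spor.Cos.HNSub
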