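import Cfsg.Agent.Lib.Spor.Cos.HNSub.Setting

/-!
Words of smaller subgroups as words in the six letters, and trivial words from certificates.
-/

set_option autoImplicit false
set_option maxRecDepth 100000

namespace Cfsg.Agent.Spor.Cos.HNSub

/-- A word in some words and their inverses as a word in the six letters. -/
def flat (L : List (List ℕ)) (w : List ℕ) : List ℕ :=
  (w.map fun s => bif Nat.beq (s % 2) 0 then L.getD (s / 2) [] else invWord (L.getD (s / 2) [])).flatten

theorem ev_flat (L : List (List ℕ)) (w : List ℕ) : ev (fromWords g L) w = ev g (flat L w) :=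
  ev_fromWords g L g_paired w

/-- Words known to be trivial. -/
def Known (L : List (List ℕ)) : Prop := ∀ w ∈ L, ev g w = 1

theorem Known.append {A B : List (List ℕ)} (hA : Known A) (hB : Known B) : Known (A ++ B) := fun w hw =>
  (List.mem_append.1 hw).elim (hA w) (hB w)

/-- The relations of a certificate hold. -/
theorem rels_ok {L base known rels : List (List ℕ)} (hk : Known known)
    (h1 : rels.all (derivedP base) = true) (h2 : (base.all fun w => derivedP known (flat L w)) = true) :
    ∀ w ∈ rels, ev (fromWords g L) w = 1 := fun w hw =>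
  ev_derivedP (fromWords_paired g L)
    (fun r hr => (ev_flat L r).trans (ev_derivedP g_paired hk (List.all_eq_true.1 h2 r hr)))
    (List.all_eq_true.1 h1 w hw)

/-- The words of the smaller subgroup lie in it. -/
theorem sub_ok {L L' sub : List (List ℕ)}
    (h : (sub.all fun w => L'.contains (flat L w) || (flat L w).all fun s => L'.contains [s]) = true) :
    ∀ w ∈ sub, ev (fromWords g L) w ∈ val g L' := by
  intro w hw
  rw [ev_flat]
  rcases Bool.or_eq_true_iff.1 (List.all_eq_true.1 h w hw) with h1 | h1
  · exact mem_val (List.contains_iff_mem.1 h1)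
  · refine ev_mem _ fun s hs => ?_
    have := mem_val (g := g) (List.contains_iff_mem.1 (List.all_eq_true.1 h1 s hs))
    simpa [ev] using this

/-- The goal words of a certificate are trivial if elements of the smaller subgroup fixing some points are. -/
theorem loops_known {L L' base known : List (List ℕ)} {C : Log} (hd : ∀ i, i + 1 < C.M → C.chkDef i = true)
    (hf : ∀ i, C.M ≤ i + 1 → i < C.nF → ∃ J, C.chkFactP i J = true) (hk : Known known)
    (h1 : C.rels.all (derivedP base) = true) (h2 : (base.all fun w => derivedP known (flat L w)) = true)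
    (h3 : (C.sub.all fun w => L'.contains (flat L w) || (flat L w).all fun s => L'.contains [s]) = true)
    {Ls : List (List ℕ × ℕ × ℕ)} (hl : (Ls.all fun o => C.walkP C.nF 0 o.2.1 o.2.2 0 o.1) = true)
    {pts : List ℕ}
    (hdet : ∀ z ∈ val g L', (∀ p : Fin act1408.N, (p : ℕ) ∈ pts → piA z p = p) → z = 1)
    (h4 : (Ls.all fun o => (flat L o.1).all (fun s => Nat.blt s 6) &&
      pts.all fun p => Nat.beq (act1408.goP (flat L o.1) p) p) = true) :
    Known (Ls.map fun o => flat L o.1) := by
  intro w hw
  obtain ⟨o, ho, rfl⟩ := List.mem_map.1 hw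
  have hm := C.loop_memP (g := fromWords g L) (fromWords_paired g L) hd hf (rels_ok hk h1 h2) (sub_ok h3)
    (List.all_eq_true.1 hl o ho)
  rw [ev_flat] at hm
  have h := List.all_eq_true.1 h4 o ho
  simp only [Bool.and_eq_true, List.all_eq_true] at h
  refine hdet _ hm fun p hp => Fin.ext ?_
  rw [homA.apply_ev _ (fun s hs => Nat.le_of_ble_eq_true (h.1 s hs))]
  exact Nat.eq_of_beq_eq_true (h.2 p hp)

/-- One step of a chain. -/
theorem step_known {L L' base known : List (List ℕ)} {k : ℕ} (hK : BoundW g L' k) {C : Log} (hc : C.ChecksP)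
    (hn : C.n = 2 * L.length) (hk : Known known) (h1 : C.rels.all (derivedP base) = true)
    (h2 : (base.all fun w => derivedP known (flat L w)) = true)
    (h3 : (C.sub.all fun w => L'.contains (flat L w) || (flat L w).all fun s => L'.contains [s]) = true) :
    BoundW g L (C.N * k) := by
  have := hK.1
  exact BoundW.step hK.2 C hc hn (rels_ok hk h1 h2) (sub_ok h3)

end Cfsg.Agent.Spor.Cos.HNSub
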