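import Cfsg.Agent.Lib.Spor.Cos.PairStep
import Cfsg.Agent.Lib.Spor.Cos.HNSub.UuPart0

/-! A checked coset enumeration. -/

set_option autoImplicit false
set_option maxRecDepth 100000
set_option maxHeartbeats 4000000

namespace Cfsg.Agent.Spor.Cos.HNSub

theorem uu_def0 : allBlock uu.chkDef 1806 512 0 = true := by decide +kernel

theorem uu_def1 : allBlock uu.chkDef 1806 512 1 = true := by decide +kernel

theorem uu_def2 : allBlock uu.chkDef 1806 512 2 = true := by decide +kernel

theorem uu_def3 : allBlock uu.chkDef 1806 512 3 = true := by decide +kernel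

theorem uu_defs : ∀ i, i + 1 < uu.M → uu.chkDef i = true := by
  intro i hi
  change i + 1 < 1807 at hi
  refine of_allBlock (n := 1806) (size := 512) (by decide) (fun j hj => ?_) (by omega)
  have hj' : j < 4 := by omega
  interval_cases j
  · exact uu_def0
  · exact uu_def1
  · exact uu_def2
  · exact uu_def3

theorem uu_facts : ∀ i, uu.M ≤ i + 1 → i < uu.nF → ∃ J, uu.chkFactP i J = true := by
  exact uu.facts_of_coversP (Log.CoversP.trans uu (Log.CoversP.trans uu (uu.covers_of_partP _ _ _ uu_part0) (uu.covers_of_partP _ _ _ uu_part1)) (Log.CoversP.trans uu (uu.covers_of_partP _ _ _ uu_part2) (uu.covers_of_partP _ _ _ uu_part3))) rfl rfl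

theorem uu_final0 : allBlock uu.chkFinalP 200 512 0 = true := by decide +kernel

theorem uu_checks : uu.ChecksP where
  pos := by decide +kernel
  defs := uu_defs
  facts := uu_facts
  final := by
    intro k hk
    change k < 50 * 4 at hk
    refine of_allBlock (n := 200) (size := 512) (by decide) (fun j hj => ?_) (by omega)
    have hj' : j < 1 := by omega
    interval_cases j
    · exact uu_final0

theorem uu_derived : uu.rels.all (derivedP uuBase) = true := by decide +kernel

end Cfsg.Agent.Spor.Cos.HNSub
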