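import Cfsg.Agent.Lib.Spor.Cos.PairStep
import Cfsg.Agent.Lib.Spor.Cos.HNSub.W1Part0

/-! A checked coset enumeration. -/

set_option autoImplicit false
set_option maxRecDepth 100000
set_option maxHeartbeats 4000000

namespace Cfsg.Agent.Spor.Cos.HNSub

theorem w1_def0 : allBlock w1.chkDef 1259 512 0 = true := by decide +kernel

theorem w1_def1 : allBlock w1.chkDef 1259 512 1 = true := by decide +kernel

theorem w1_def2 : allBlock w1.chkDef 1259 512 2 = true := by decide +kernel

theorem w1_defs : ∀ i, i + 1 < w1.M → w1.chkDef i = true := by
  intro i hi
  change i + 1 < 1260 at hi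
  refine of_allBlock (n := 1259) (size := 512) (by decide) (fun j hj => ?_) (by omega)
  have hj' : j < 3 := by omega
  interval_cases j
  · exact w1_def0
  · exact w1_def1
  · exact w1_def2

theorem w1_facts : ∀ i, w1.M ≤ i + 1 → i < w1.nF → ∃ J, w1.chkFactP i J = true := by
  exact w1.facts_of_coversP (Log.CoversP.trans w1 (w1.covers_of_partP _ _ _ w1_part0) (w1.covers_of_partP _ _ _ w1_part1)) rfl rfl

theorem w1_final0 : allBlock w1.chkFinalP 5040 512 0 = true := by decide +kernel

theorem w1_final1 : allBlock w1.chkFinalP 5040 512 1 = true := by decide +kernel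

theorem w1_final2 : allBlock w1.chkFinalP 5040 512 2 = true := by decide +kernel

theorem w1_final3 : allBlock w1.chkFinalP 5040 512 3 = true := by decide +kernel

theorem w1_final4 : allBlock w1.chkFinalP 5040 512 4 = true := by decide +kernel

theorem w1_final5 : allBlock w1.chkFinalP 5040 512 5 = true := by decide +kernel

theorem w1_final6 : allBlock w1.chkFinalP 5040 512 6 = true := by decide +kernel

theorem w1_final7 : allBlock w1.chkFinalP 5040 512 7 = true := by decide +kernel

theorem w1_final8 : allBlock w1.chkFinalP 5040 512 8 = true := by decide +kernel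

theorem w1_final9 : allBlock w1.chkFinalP 5040 512 9 = true := by decide +kernel

theorem w1_checks : w1.ChecksP where
  pos := by decide +kernel
  defs := w1_defs
  facts := w1_facts
  final := by
    intro k hk
    change k < 1260 * 4 at hk
    refine of_allBlock (n := 5040) (size := 512) (by decide) (fun j hj => ?_) (by omega)
    have hj' : j < 10 := by omega
    interval_cases j
    · exact w1_final0
    · exact w1_final1
    · exact w1_final2
    · exact w1_final3
    · exact w1_final4
    · exact w1_final5
    · exact w1_final6
    · exact w1_final7
    · exact w1_final8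
    · exact w1_final9

theorem w1_derived : w1.rels.all (derivedP w1Base) = true := by decide +kernel

end Cfsg.Agent.Spor.Cos.HNSub
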