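import Cfsg.Agent.Lib.Spor.Cos.HNSub.Small
import Cfsg.Agent.Lib.Spor.Cos.HNSub.Transfer
import Cfsg.Agent.Lib.Spor.Cos.HNSub.LaCert
import Cfsg.Agent.Lib.Spor.Cos.HNSub.DdCert
import Cfsg.Agent.Lib.Spor.Cos.HNSub.LcCert
import Cfsg.Agent.Lib.Spor.Cos.HNSub.LwCert
import Cfsg.Agent.Lib.Spor.Cos.HNSub.HhCert
import Cfsg.Agent.Lib.Spor.Cos.HNSub.W1Cert
import Cfsg.Agent.Lib.Spor.Cos.HNSub.UuCert

/-!
A first bound of the order of the subgroup of the first two generators.
-/

set_option autoImplicit false
set_option maxRecDepth 100000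
set_option maxHeartbeats 4000000

namespace Cfsg.Agent.Spor.Cos.HNSub

/-- The words of the first two generators. -/
def wU : List (List ℕ) := [[0], [2]]

/-- The words of the subgroup of order 48. -/
def wD : List (List ℕ) := [[0], [2, 2, 2]]

/-- The words of the point stabiliser in the first two generators. -/
def wW : List (List ℕ) := [[0], [2, 2]]

/-- The words of the subgroup of order 24. -/
def wH : List (List ℕ) := [[0], [2, 2, 0, 3, 3]]

/-- The words of all three generators. -/
def wN : List (List ℕ) := [[0], [2], [4]]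

theorem mem_wU {y : Gp} : y ∈ val g [[2]] ↔ y ∈ Subgroup.zpowers (g 2) := by
  have e : val g [[2]] = Subgroup.zpowers (g 2) := by
    rw [val, Subgroup.zpowers_eq_closure]
    congr 1
    ext z
    simp [ev, eq_comm]
  rw [e]

theorem y_six : g 2 ^ 6 = 1 := by
  have h := rel_holds [2, 2, 2, 2, 2, 2] (List.mem_cons_self ..)
  simpa [ev, pow_succ, mul_assoc] using h

theorem y_orbit : ((List.range 6).all fun k => Nat.beq k 0 ||
    !(Nat.beq (act1408.goP (List.replicate k 2) 4) 4)) = true := by decide +kernel

/-- A power of the second generator fixing a point is trivial. -/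
theorem det_y : ∀ z ∈ val g [[2]], (∀ p : Fin act1408.N, (p : ℕ) ∈ [4] → piA z p = p) → z = 1 := by
  intro z hz hfix
  obtain ⟨n, rfl⟩ := Subgroup.mem_zpowers_iff.1 (mem_wU.1 hz)
  obtain ⟨k, hk, e⟩ : ∃ k < 6, g 2 ^ n = g 2 ^ k := by
    refine ⟨(n % 6).toNat, by omega, ?_⟩
    rw [← zpow_natCast, Int.toNat_of_nonneg (Int.emod_nonneg _ (by norm_num))]
    conv_lhs => rw [← Int.emod_add_mul_ediv n 6, zpow_add, zpow_mul, show g 2 ^ (6 : ℤ) = 1 from by exact_mod_cast y_six,
      one_zpow, mul_one]
  rw [e] at hfix ⊢
  have hev : ∀ j : ℕ, ev g (List.replicate j 2) = g 2 ^ j := by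
    intro j
    induction j with
    | zero => simp [ev]
    | succ j ih => rw [List.replicate_succ, ev, ih, pow_succ']
  rw [← hev] at hfix
  have h := hfix ⟨4, by decide⟩ (by simp)
  have h' := congrArg Fin.val h
  rw [homA.apply_ev _ (fun s hs => by rw [List.eq_of_mem_replicate hs]; decide)] at h'
  have hc := List.all_eq_true.1 y_orbit k (List.mem_range.2 hk)
  rcases Bool.or_eq_true_iff.1 hc with h0 | h0
  · rw [Nat.eq_of_beq_eq_true h0, pow_zero]
  · rw [h', Nat.beq_refl] at h0
    exact absurd h0 (by simp)

/-- The words of the first certificate. -/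
def knownA : List (List ℕ) := relWords ++ laLoops.map fun o => flat wU o.1

theorem known_A : Known knownA :=
  Known.append rel_holds (loops_known (L' := [[2]]) (pts := [4]) la_defs la_facts rel_holds la_derived
    (by decide +kernel) (by decide +kernel) la_loops det_y (by decide +kernel))

theorem bound_D : BoundW g imgD.ws imgD.N :=
  step_known (L' := []) (BoundW.nil g) dd_checks rfl known_A dd_derived (by decide +kernel) (by decide +kernel)

theorem det_D : ∀ z ∈ val g wD, (∀ p : Fin act1408.N, (p : ℕ) ∈ imgDPts → piA z p = p) → z = 1 := by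
  intro z hz hfix
  refine imgD_ok.eq_one_of_fix bound_D hz ?_
  suffices ∀ ps : List ℕ, (∀ p ∈ ps, p ∈ imgDPts) → PImg.image (piA z) ps = PImg.image 1 ps from
    this _ fun p hp => hp
  intro ps
  induction ps with
  | nil => intro; rfl
  | cons p ps ih =>
    intro h
    have hp := imgD_ok.pts p (h p (List.mem_cons_self ..))
    simp [PImg.image, dif_pos hp, hfix ⟨p, hp⟩ (h p (List.mem_cons_self ..)),
      ih fun q hq => h q (List.mem_cons_of_mem _ hq)]

/-- The words of the first two certificates. -/
def knownC : List (List ℕ) := knownA ++ lcLoops.map fun o => flat wU o.1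

theorem known_C : Known knownC :=
  Known.append known_A (loops_known (L' := wD) (pts := imgDPts) lc_defs lc_facts known_A lc_derived
    (by decide +kernel) (by decide +kernel) lc_loops det_D (by decide +kernel))

/-- The words of the first three certificates. -/
def knownW : List (List ℕ) := knownC ++ lwLoops.map fun o => flat wW o.1

theorem known_W : Known knownW :=
  Known.append known_C (loops_known (L' := [[2]]) (pts := [4]) lw_defs lw_facts known_C lw_derived
    (by decide +kernel) (by decide +kernel) lw_loops det_y (by decide +kernel))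

theorem bound_H : BoundW g wH 24 :=
  step_known (L' := []) (BoundW.nil g) hh_checks rfl known_W hh_derived (by decide +kernel) (by decide +kernel)

theorem bound_W : BoundW g wW (1260 * 24) :=
  step_known bound_H w1_checks rfl known_W w1_derived (by decide +kernel) (by decide +kernel)

theorem bound_U {k : ℕ} (h : BoundW g wW k) : BoundW g wU (50 * k) :=
  step_known h uu_checks rfl rel_holds uu_derived (by decide +kernel) (by decide +kernel)

end Cfsg.Agent.Spor.Cos.HNSub
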