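import Cfsg.Agent.Lib.Spor.Cos.PairLog

/-!
Data of a coset enumeration with 48 cosets.
-/

set_option autoImplicit false
set_option maxRecDepth 100000
set_option maxHeartbeats 4000000

namespace Cfsg.Agent.Spor.Cos.HNSub

def ddFactsT0 : Tree := .node (.leaf 0x20001b0001f20001a0001e2000190001d2000180001c2000130001720001200016200011000152000100001420000b0000f20000a0000e2000080000d2000070000c200004000092000020000620000100005200000000031000040000220002f0002b20002e0002a20002d0002920002c0002810002b0002600002a000261000290002400002800024200027000232000260002220002500021200024000201000230001e0000220001e1000210001c0000200001c20001f0001b20001e0001a20001d0001920001c0001810001b0001600001a000161000190001400001800014200017000132000160001220001500011200014000101000130000e0000120000e1000110000c0000100000c20000f0000b20000e0000a20000d0000820000c0000710000b0000500000a00005200009000041000080000300000700003200006000022000050000100000400001200003000001000020000000000100000) (.leaf 0x2c0002f00002e0002c00002f0002d00002d0002e0000270002a00002b00027000025000280000290002500001f000220000230001f00001d000200000210001d0000170001a00001b00017000015000180000190001500000f000120000130000f00000d000100000110000d000009000070000060000a00000b000060000080000920002b0002f20002a0002e2000290002d2000280002c20002300027200022000262000210002520002000024)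

/-- The table ddFacts. -/
def ddFacts : Table := ⟨ddFactsT0, 1, 44, 6⟩

def ddFinalT0 : Tree := .node (.node (.leaf 0xe8001b80013e0009c0000d8001b000048000220000c8001a800136000980000b8001a0000400001e000378000700012600015000368000680002600094000088001980012e0009000035800060001220000f000348000580001a00096000058001900012a00092000048001880002800012000338000400000e0005f000028001800001c0000c00032800028000bc00003000318000200000200006000308000100000400000) (.leaf 0x1e8001f80015e000ac0001d8001f000088000420001c8001e800156000a80001b8001e0000800003e0003f8000f00014a000350003e8000e800066000a60003d8000e000142000310003c8000d80005e000a2000168001d80014e000a4000158001d00006800032000148001c800146000a0000138001c0000600002e0003b8000b00013a000250003a8000a8000460009e000398000a00013200021000388000980003e0009a)) (.node (.leaf 0x2e80023800176000be0002d8002300017a000b80002c80022800172000ba0002b8002200017e000bc000478001700016a0005500046800168000a6000b6000458001600016200051000448001580009e000b2000268002180016e000b400025800210000a8000520002480020800166000b000023800200000a00004e000438001300015a000450004280012800086000ae000418001200015200041000408001180007e000aa) (.leaf 0))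

/-- The table ddFinal. -/
def ddFinal : Table := ⟨ddFinalT0, 2, 21, 6⟩

/-- The base words of `dd`. -/
def ddBase : List (List ℕ) := [[1, 1, 1, 1], [2, 2], [1, 1, 3, 0, 0, 2], [0, 2, 0, 2, 0, 2, 0, 2, 0, 2, 0, 2, 0, 2, 0, 2, 0, 2, 0, 2, 0, 2, 0, 2]]

/-- The certificate `dd`. -/
def dd : Log where
  n := 4
  N := 48
  M := 48
  nF := 96
  facts := ddFacts
  final := ddFinal
  rels := [[1, 1, 1, 1], [2, 2], [1, 1, 3, 0, 0, 2], [0, 2, 0, 2, 0, 2, 0, 2, 0, 2, 0, 2, 0, 2, 0, 2, 0, 2, 0, 2, 0, 2, 0, 2]]
  sub := []

end Cfsg.Agent.Spor.Cos.HNSub
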