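import Cfsg.Agent.Lib.Spor.Cos.PairLog

/-!
Data of a coset enumeration with 24 cosets.
-/

set_option autoImplicit false
set_option maxRecDepth 100000
set_option maxHeartbeats 4000000

namespace Cfsg.Agent.Spor.Cos.HNSub

def hhFactsT0 : Tree := .leaf 0x3000140001130000c00009100017000140000160001400001700015000015000161000100000d100008000043000130001730001600013300011000150000130000f00000f000120000110000d30000b0000f30000e0000b3000090000d00000b000070000070000a300005000040000090000430000200007300006000023000030000510000500002300017000122000160001230001500010200014000101000130000e0000120000e1000110000c0000100000c30000f0000a20000e0000a30000d0000820000c0000810000b0000600000a00006100009000030000080000330000700001200006000010000050000130000400000200003000001000020000000000100000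

/-- The table hhFacts. -/
def hhFacts : Table := ⟨hhFactsT0, 0, 44, 6⟩

def hhFinalT0 : Tree := .node (.leaf 0x210000740008e000480000d80010400048000220001f000064000a4000440000b800174000400001e0002000010c0007a000150000e000068000260003a0002e0000fc0006e000110000c0000580001e000510001a000034000760003c000058000cc0002800012000180000e4000120002f0001c00001c000a000036000028000c4000200000e000190000d40005c00003000060000280000200008000030000100000400000) (.leaf 0x270000b4000ae0005b00015800134000b200054000250000a4000aa000560001380017c000b4000580002600013c0009200025000160000a800046000460002f00012c0008a00021000140000980003e00053)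

/-- The table hhFinal. -/
def hhFinal : Table := ⟨hhFinalT0, 1, 21, 6⟩

/-- The base words of `hh`. -/
def hhBase : List (List ℕ) := [[1, 1, 1, 1], [0, 2, 0, 2, 0, 2, 0, 2, 0, 2, 0, 2], [0, 0, 3, 3]]

/-- The certificate `hh`. -/
def hh : Log where
  n := 4
  N := 24
  M := 24
  nF := 48
  facts := hhFacts
  final := hhFinal
  rels := [[1, 1, 1, 1], [0, 0, 3, 3], [0, 2, 0, 2, 0, 2, 0, 2, 0, 2, 0, 2]]
  sub := []

end Cfsg.Agent.Spor.Cos.HNSub
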