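import Cfsg.Agent.Lib.Spor.Cos.PairStep
import Cfsg.Agent.Lib.Spor.Cos.HNSub.LkPart0

/-! A checked coset enumeration. -/

set_option autoImplicit false
set_option maxRecDepth 100000
set_option maxHeartbeats 4000000

namespace Cfsg.Agent.Spor.Cos.HNSub

theorem lk_def0 : allBlock lk.chkDef 3572 512 0 = true := by decide +kernel

theorem lk_def1 : allBlock lk.chkDef 3572 512 1 = true := by decide +kernel

theorem lk_def2 : allBlock lk.chkDef 3572 512 2 = true := by decide +kernel

theorem lk_def3 : allBlock lk.chkDef 3572 512 3 = true := by decide +kernel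

theorem lk_def4 : allBlock lk.chkDef 3572 512 4 = true := by decide +kernel

theorem lk_def5 : allBlock lk.chkDef 3572 512 5 = true := by decide +kernel

theorem lk_def6 : allBlock lk.chkDef 3572 512 6 = true := by decide +kernel

theorem lk_defs : ∀ i, i + 1 < lk.M → lk.chkDef i = true := by
  intro i hi
  change i + 1 < 3573 at hi
  refine of_allBlock (n := 3572) (size := 512) (by decide) (fun j hj => ?_) (by omega)
  have hj' : j < 7 := by omega
  interval_cases j
  · exact lk_def0
  · exact lk_def1
  · exact lk_def2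
  · exact lk_def3
  · exact lk_def4
  · exact lk_def5
  · exact lk_def6

theorem lk_facts : ∀ i, lk.M ≤ i + 1 → i < lk.nF → ∃ J, lk.chkFactP i J = true := by
  exact lk.facts_of_coversP (lk.covers_of_partP _ _ _ lk_part0) rfl rfl

/-- The scans of the goal words of `lk`. -/
def lkLoops : List (List ℕ × ℕ × ℕ) := [
  ([2, 2, 0, 2, 2, 0, 3, 3, 0, 3, 3, 0, 2, 2, 0, 3, 3, 0, 2, 2, 0, 2, 2, 0, 3, 3, 0, 3, 3, 1, 2, 2, 1, 3, 3, 1, 3, 3, 1, 2, 2, 1, 3, 3, 1, 2, 2, 1, 2, 2, 1, 3, 3, 1], 54, 0x37d401bf400ff5800374001be000e100071800394001ce000e9000758003b4001de000f1000798003d4001ee000f90007d8003f4001fe00101000818004140020e02017000840004180020800102000800003f8001f8000fa0007c0003d8001e8000f2000780003b8001d8000ea00074000398001c8000e200070000378001b801fea00dfa806fac037d001be8)]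

theorem lk_loops : (lkLoops.all fun o => lk.walkP lk.nF 0 o.2.1 o.2.2 0 o.1) = true := by decide +kernel


theorem lk_derived : lk.rels.all (derivedP lkBase) = true := by decide +kernel

end Cfsg.Agent.Spor.Cos.HNSub
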