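import Cfsg.Agent.Lib.Spor.Cos.PairStep
import Cfsg.Agent.Lib.Spor.Cos.HNSub.TopPart0
import Cfsg.Agent.Lib.Spor.Cos.HNSub.TopPart1

/-! A checked coset enumeration. -/

set_option autoImplicit false
set_option maxRecDepth 100000
set_option maxHeartbeats 4000000

namespace Cfsg.Agent.Spor.Cos.HNSub

theorem top_def0 : allBlock top.chkDef 14662 512 0 = true := by decide +kernel

theorem top_def1 : allBlock top.chkDef 14662 512 1 = true := by decide +kernel

theorem top_def2 : allBlock top.chkDef 14662 512 2 = true := by decide +kernel

theorem top_def3 : allBlock top.chkDef 14662 512 3 = true := by decide +kernel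

theorem top_def4 : allBlock top.chkDef 14662 512 4 = true := by decide +kernel

theorem top_def5 : allBlock top.chkDef 14662 512 5 = true := by decide +kernel

theorem top_def6 : allBlock top.chkDef 14662 512 6 = true := by decide +kernel

theorem top_def7 : allBlock top.chkDef 14662 512 7 = true := by decide +kernel

theorem top_def8 : allBlock top.chkDef 14662 512 8 = true := by decide +kernel

theorem top_def9 : allBlock top.chkDef 14662 512 9 = true := by decide +kernel

theorem top_def10 : allBlock top.chkDef 14662 512 10 = true := by decide +kernel

theorem top_def11 : allBlock top.chkDef 14662 512 11 = true := by decide +kernel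

theorem top_def12 : allBlock top.chkDef 14662 512 12 = true := by decide +kernel

theorem top_def13 : allBlock top.chkDef 14662 512 13 = true := by decide +kernel

theorem top_def14 : allBlock top.chkDef 14662 512 14 = true := by decide +kernel

theorem top_def15 : allBlock top.chkDef 14662 512 15 = true := by decide +kernel

theorem top_def16 : allBlock top.chkDef 14662 512 16 = true := by decide +kernel

theorem top_def17 : allBlock top.chkDef 14662 512 17 = true := by decide +kernel

theorem top_def18 : allBlock top.chkDef 14662 512 18 = true := by decide +kernel

theorem top_def19 : allBlock top.chkDef 14662 512 19 = true := by decide +kernel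

theorem top_def20 : allBlock top.chkDef 14662 512 20 = true := by decide +kernel

theorem top_def21 : allBlock top.chkDef 14662 512 21 = true := by decide +kernel

theorem top_def22 : allBlock top.chkDef 14662 512 22 = true := by decide +kernel

theorem top_def23 : allBlock top.chkDef 14662 512 23 = true := by decide +kernel

theorem top_def24 : allBlock top.chkDef 14662 512 24 = true := by decide +kernel

theorem top_def25 : allBlock top.chkDef 14662 512 25 = true := by decide +kernel

theorem top_def26 : allBlock top.chkDef 14662 512 26 = true := by decide +kernel

theorem top_def27 : allBlock top.chkDef 14662 512 27 = true := by decide +kernel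

theorem top_def28 : allBlock top.chkDef 14662 512 28 = true := by decide +kernel

theorem top_defs : ∀ i, i + 1 < top.M → top.chkDef i = true := by
  intro i hi
  change i + 1 < 14663 at hi
  refine of_allBlock (n := 14662) (size := 512) (by decide) (fun j hj => ?_) (by omega)
  have hj' : j < 29 := by omega
  interval_cases j
  · exact top_def0
  · exact top_def1
  · exact top_def2
  · exact top_def3
  · exact top_def4
  · exact top_def5
  · exact top_def6
  · exact top_def7
  · exact top_def8
  · exact top_def9
  · exact top_def10
  · exact top_def11
  · exact top_def12
  · exact top_def13
  · exact top_def14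
  · exact top_def15
  · exact top_def16
  · exact top_def17
  · exact top_def18
  · exact top_def19
  · exact top_def20
  · exact top_def21
  · exact top_def22
  · exact top_def23
  · exact top_def24
  · exact top_def25
  · exact top_def26
  · exact top_def27
  · exact top_def28

theorem top_facts : ∀ i, top.M ≤ i + 1 → i < top.nF → ∃ J, top.chkFactP i J = true := by
  exact top.facts_of_coversP (Log.CoversP.trans top (Log.CoversP.trans top (Log.CoversP.trans top (Log.CoversP.trans top (top.covers_of_partP _ _ _ top_part0) (Log.CoversP.trans top (top.covers_of_partP _ _ _ top_part1) (top.covers_of_partP _ _ _ top_part2))) (Log.CoversP.trans top (top.covers_of_partP _ _ _ top_part3) (Log.CoversP.trans top (top.covers_of_partP _ _ _ top_part4) (top.covers_of_partP _ _ _ top_part5)))) (Log.CoversP.trans top (Log.CoversP.trans top (top.covers_of_partP _ _ _ top_part6) (Log.CoversP.trans top (top.covers_of_partP _ _ _ top_part7) (top.covers_of_partP _ _ _ top_part8))) (Log.CoversP.trans top (top.covers_of_partP _ _ _ top_part9) (Log.CoversP.trans top (top.covers_of_partP _ _ _ top_part10) (top.covers_of_partP _ _ _ top_part11))))) (Log.CoversP.trans top (Log.CoversP.trans top (Log.CoversP.trans top (top.covers_of_partP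 _ _ _ top_part12) (Log.CoversP.trans top (top.covers_of_partP _ _ _ top_part13) (top.covers_of_partP _ _ _ top_part14))) (Log.CoversP.trans top (top.covers_of_partP _ _ _ top_part15) (Log.CoversP.trans top (top.covers_of_partP _ _ _ top_part16) (top.covers_of_partP _ _ _ top_part17)))) (Log.CoversP.trans top (Log.CoversP.trans top (top.covers_of_partP _ _ _ top_part18) (Log.CoversP.trans top (top.covers_of_partP _ _ _ top_part19) (top.covers_of_partP _ _ _ top_part20))) (Log.CoversP.trans top (top.covers_of_partP _ _ _ top_part21) (Log.CoversP.trans top (top.covers_of_partP _ _ _ top_part22) (top.covers_of_partP _ _ _ top_part23)))))) rfl rfl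

theorem top_final0 : allBlock top.chkFinalP 2112 512 0 = true := by decide +kernel

theorem top_final1 : allBlock top.chkFinalP 2112 512 1 = true := by decide +kernel

theorem top_final2 : allBlock top.chkFinalP 2112 512 2 = true := by decide +kernel

theorem top_final3 : allBlock top.chkFinalP 2112 512 3 = true := by decide +kernel

theorem top_final4 : allBlock top.chkFinalP 2112 512 4 = true := by decide +kernel

theorem top_checks : top.ChecksP where
  pos := by decide +kernel
  defs := top_defs
  facts := top_facts
  final := by
    intro k hk
    change k < 352 * 6 at hk
    refine of_allBlock (n := 2112) (size := 512) (by decide) (fun j hj => ?_) (by omega)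
    have hj' : j < 5 := by omega
    interval_cases j
    · exact top_final0
    · exact top_final1
    · exact top_final2
    · exact top_final3
    · exact top_final4

theorem top_derived : top.rels.all (derivedP topBase) = true := by decide +kernel

end Cfsg.Agent.Spor.Cos.HNSub
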