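import Cfsg.Agent.Lib.Spor.Cos.Tree

/-! The images of the base point under the representatives. -/

set_option autoImplicit false
set_option maxRecDepth 100000
set_option maxHeartbeats 4000000

namespace Cfsg.Agent.Spor.Cos.HNSub

def topImgT0 : Tree := .node (.node (.node (.node (.node (.leaf 0xb70496004d009d01a6004f00e8008c005200b5004e0050000d000600040000) (.leaf 0x31302cf04980036004c049700c0009e007b005300e90188049900bf030d00c1)) (.node (.leaf 0x1b013c0054019a02fd044103db01aa049a023600a0030c0321010b03910416) (.leaf 0x6001fd03700035013900570411004b023704f2020400db009f00b20021007a))) (.node (.node (.leaf 0xa802e9010e0322037500610392020e0466014702ca02250312048c045d02ce) (.leaf 0x1e01db0226019b019901ff00bd03a2044803a1033d01a9017102d702350149)) (.node (.leaf 0x4a02cc055e052201d201ca033c00da0234044003e3040600b30022011b0079) (.leaf 0x18f01e0054c02cd050801fc01f6036f04a2028d04d000d600580443009b0394)))) (.node (.node (.node (.leaf 0x8003760170020f020d012204650467054602e801fa02c9022400640471048d) (.leaf 0x2d403a30472018c057f05470172047d03e804f702c700b400a9011d02bd0323)) (.node (.leaf 0x108018e00dd03240023011a049500f601000078019c03e1045c020001fe046a)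 (.leaf 0x49055d04c305650572052301d101cc015e02a400d9038504b003e203e4029d))) (.node (.node (.leaf 0x537012104f002b804d102f3013f00c90059028402de0085031d03a603a703b3) (.leaf 0x51c02c1022304a40470038d04b10190030301e1054b055b052a01f501f704dd)) (.node (.leaf 0x48e049404df044a021002a0039003d3046404f104b60468021f0545029e0275) (.leaf 0x5760173047e019603e703860526018d00de00aa011e0444003a02ea04bc03c4))))) (.node (.node (.node (.node (.leaf 0x32502dd021700f900f5056202fb02a8015f0201021e022002d504c004a7056c) (.leaf 0x3c304c20191055204d6052401cd015d00d8012a03870382047b03e5031c04ee)) (.node (.leaf 0x4ce04fd02f4044f028100c8017c01970127028302df0432041803a803d604fa) (.leaf 0x3fe04d3029f02c2046f047f055f04a804e3025101f4057c053c0120051f055c))) (.node (.node (.leaf 0x5270567051704bb04ef024d03ff040f0493025002ec02110340046b029004b5) (.leaf 0x2ee02ed047a00d002f5017b03cc052003d90511021804e6016001d5050e04a6)) (.leaf 0))) (.leaf 0))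

/-- The table topImg. -/
def topImg : Table := ⟨topImgT0, 5, 16, 4⟩

end Cfsg.Agent.Spor.Cos.HNSub
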