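import Cfsg.Agent.Lib.Spor.Cos.PairStep
import Cfsg.Agent.Lib.Spor.Cos.HNSub.W2Part0

/-! A checked coset enumeration. -/

set_option autoImplicit false
set_option maxRecDepth 100000
set_option maxHeartbeats 4000000

namespace Cfsg.Agent.Spor.Cos.HNSub

theorem w2_def0 : allBlock w2.chkDef 419 512 0 = true := by decide +kernel

theorem w2_defs : ∀ i, i + 1 < w2.M → w2.chkDef i = true := by
  intro i hi
  change i + 1 < 420 at hi
  refine of_allBlock (n := 419) (size := 512) (by decide) (fun j hj => ?_) (by omega)
  have hj' : j < 1 := by omega
  interval_cases j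
  · exact w2_def0

theorem w2_facts : ∀ i, w2.M ≤ i + 1 → i < w2.nF → ∃ J, w2.chkFactP i J = true := by
  exact w2.facts_of_coversP (w2.covers_of_partP _ _ _ w2_part0) rfl rfl

theorem w2_final0 : allBlock w2.chkFinalP 1680 512 0 = true := by decide +kernel

theorem w2_final1 : allBlock w2.chkFinalP 1680 512 1 = true := by decide +kernel

theorem w2_final2 : allBlock w2.chkFinalP 1680 512 2 = true := by decide +kernel

theorem w2_final3 : allBlock w2.chkFinalP 1680 512 3 = true := by decide +kernel

theorem w2_checks : w2.ChecksP where
  pos := by decide +kernel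
  defs := w2_defs
  facts := w2_facts
  final := by
    intro k hk
    change k < 420 * 4 at hk
    refine of_allBlock (n := 1680) (size := 512) (by decide) (fun j hj => ?_) (by omega)
    have hj' : j < 4 := by omega
    interval_cases j
    · exact w2_final0
    · exact w2_final1
    · exact w2_final2
    · exact w2_final3

theorem w2_derived : w2.rels.all (derivedP w2Base) = true := by decide +kernel

end Cfsg.Agent.Spor.Cos.HNSub
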