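import Cfsg.Agent.Lib.Spor.Cos.HNSub.Chain
import Cfsg.Agent.Lib.Spor.Cos.HNSub.TopCert
import Cfsg.Agent.Lib.Spor.Cos.HNSub.TopImgData
import Cfsg.Agent.Lib.Spor.Cos.HNSub.LkCert
import Cfsg.Agent.Lib.Spor.Cos.HNSub.W2Cert

/-!
The subgroup of the first three generators acts faithfully on 1408 points.
-/

set_option autoImplicit false
set_option maxRecDepth 100000
set_option maxHeartbeats 4000000
set_option linter.unusedSimpArgs false

namespace Cfsg.Agent.Spor.Cos.HNSub

/-- The words fix the points of a list as a set. -/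
noncomputable def keepsSet (ws : List (List ℕ)) (T : List ℕ) : Bool :=
  ws.all fun w => w.all (fun s => Nat.blt s 6) && T.all fun p => force (act1408.goP w p) fun q => T.contains q

/-- The points of a list. -/
def ptSet (T : List ℕ) : Set (Fin act1408.N) := {p | (p : ℕ) ∈ T}

theorem image_ptSet {ws : List (List ℕ)} {T : List ℕ} (h : keepsSet ws T = true) :
    ∀ y ∈ val g ws, piA y '' ptSet T = ptSet T := by
  intro y hy
  induction hy using Subgroup.closure_induction with
  | mem y hy =>
    obtain ⟨w, hw, rfl⟩ := hy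
    have h' := List.all_eq_true.1 h w hw
    simp only [Bool.and_eq_true, List.all_eq_true] at h'
    refine Set.eq_of_subset_of_ncard_le ?_ (Set.ncard_image_of_injective _ (piA (ev g w)).injective).ge
    rintro _ ⟨p, hp, rfl⟩
    show (piA (ev g w) p : ℕ) ∈ T
    rw [homA.apply_ev w (fun s hs => Nat.le_of_ble_eq_true (h'.1 s hs))]
    have := h'.2 p hp
    rw [force_eq] at this
    exact List.contains_iff_mem.1 this
  | one => simp
  | mul a b _ _ ha hb => rw [map_mul, Equiv.Perm.coe_mul, Set.image_comp, hb, ha]
  | inv a _ ha =>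
    conv_lhs => rw [← ha]
    rw [← Set.image_comp, ← Equiv.Perm.coe_mul, ← map_mul, inv_mul_cancel, map_one, Equiv.Perm.coe_one, Set.image_id]

theorem set_W : keepsSet wW setPts = true := by decide +kernel

theorem set_U : keepsSet wU blockPts = true := by decide +kernel

theorem setWords_ok : (setWords.all fun w => w.all fun s => [[0], [2]].contains [s] && Nat.blt s 6) = true := by
  decide +kernel

theorem set_sep : ((List.range 50).all fun a => (List.range 50).all fun b => Nat.beq a b ||
    !(setPts.all fun p => (setPts.map fun q => act1408.goP (setWords.getD b []) q).contains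
      (act1408.goP (setWords.getD a []) p))) = true := by decide +kernel

theorem setPts_lt : ∀ p ∈ setPts, p < act1408.N := by decide +kernel

theorem setWords_mem {a : ℕ} (ha : a < 50) : setWords.getD a [] ∈ setWords := by
  have hl : a < setWords.length := lt_of_lt_of_eq ha (by decide +kernel : 50 = setWords.length)
  rw [List.getD_eq_getElem _ _ hl]
  exact List.getElem_mem hl

theorem setWord_facts {a : ℕ} (ha : a < 50) :
    ev g (setWords.getD a []) ∈ val g wU ∧ ∀ s ∈ setWords.getD a [], s < 6 := by
  have h := List.all_eq_true.1 setWords_ok _ (setWords_mem ha)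
  simp only [List.all_eq_true, Bool.and_eq_true] at h
  refine ⟨ev_mem _ fun s hs => ?_, fun s hs => Nat.le_of_ble_eq_true (h s hs).2⟩
  have := mem_val (g := g) (List.contains_iff_mem.1 (h s hs).1)
  simpa [ev, wU] using this

theorem wW_le_wU : val g wW ≤ val g wU := by
  refine (Subgroup.closure_le _).2 ?_
  rintro _ ⟨w, hw, rfl⟩
  refine ev_mem w fun s hs => ?_
  have hs' : [s] ∈ wU := by
    simp only [wW, List.mem_cons, List.not_mem_nil, or_false] at hw
    rcases hw with rfl | rfl <;> simp_all [wU]
  simpa [ev] using mem_val (g := g) hs'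

theorem map_U_ge : 504000 ≤ Nat.card ((val g wU).map piA) := by
  have hW : 10080 ≤ Nat.card ((val g wW).map piA) := imgW_ok.card_map
  let u : Fin 50 → Gp := fun a => ev g (setWords.getD a [])
  let f : Fin 50 × (val g wW).map piA → (val g wU).map piA := fun o =>
    ⟨piA (u o.1) * (o.2 : Equiv.Perm (Fin act1408.N)), mul_mem (Subgroup.mem_map_of_mem _ (setWord_facts o.1.2).1)
      (Subgroup.map_mono wW_le_wU o.2.2)⟩
  have hkeep : ∀ w : (val g wW).map piA, (w : Equiv.Perm (Fin act1408.N)) '' ptSet setPts = ptSet setPts := by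
    rintro ⟨_, y, hy, rfl⟩
    exact image_ptSet set_W y hy
  have hf : Function.Injective f := by
    rintro ⟨a, v⟩ ⟨b, w⟩ h
    have h' : piA (u a) * (v : Equiv.Perm _) = piA (u b) * (w : Equiv.Perm _) := congrArg Subtype.val h
    have hab : a = b := by
      by_contra hne
      have hs := List.all_eq_true.1 (List.all_eq_true.1 set_sep a (List.mem_range.2 a.2)) b (List.mem_range.2 b.2)
      rcases Bool.or_eq_true_iff.1 hs with hs | hs
      · exact hne (Fin.ext (Nat.eq_of_beq_eq_true hs))
      · simp only [Bool.not_eq_true', List.all_eq_false] at hs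
        obtain ⟨p, hp, hn⟩ := hs
        refine hn (List.contains_iff_mem.2 ?_)
        have himg : piA (u a) '' ptSet setPts = piA (u b) '' ptSet setPts := by
          have := congrArg (fun σ : Equiv.Perm (Fin act1408.N) => σ '' ptSet setPts) h'
          simpa only [Equiv.Perm.coe_mul, Set.image_comp, hkeep] using this
        obtain ⟨q, hq, e⟩ : piA (u a) ⟨p, setPts_lt p hp⟩ ∈ piA (u b) '' ptSet setPts :=
          himg ▸ Set.mem_image_of_mem _ (show (⟨p, setPts_lt p hp⟩ : Fin act1408.N) ∈ ptSet setPts from hp)
        refine List.mem_map.2 ⟨q, hq, ?_⟩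
        have e' := congrArg Fin.val e
        rw [homA.apply_ev _ (setWord_facts a.2).2, homA.apply_ev _ (setWord_facts b.2).2] at e'
        exact e'
    subst hab
    exact Prod.ext rfl (Subtype.ext (mul_left_cancel h'))
  have := Nat.card_le_card_of_injective f hf
  rw [Nat.card_prod, Nat.card_fin] at this
  exact le_trans (by omega) this

/-- The order of the kernel on the subgroup of the first two generators. -/
theorem kernel_U_le {k : ℕ} (h : BoundW g wU (504000 * k)) :
    Finite (val g wU ⊓ piA.ker : Subgroup Gp) ∧ Nat.card (val g wU ⊓ piA.ker : Subgroup Gp) ≤ k := by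
  obtain ⟨hfin, hcard⟩ := h
  set U := val g wU
  let σ := piA.subgroupMap U
  have hσ : Function.Surjective σ := piA.subgroupMap_surjective U
  have : Finite (U ⊓ piA.ker : Subgroup Gp) := Finite.of_injective _ (Subgroup.inclusion_injective inf_le_left)
  refine ⟨this, ?_⟩
  let e : (U ⊓ piA.ker : Subgroup Gp) → σ.ker := fun z =>
    ⟨⟨z, z.2.1⟩, MonoidHom.mem_ker.2 (Subtype.ext (MonoidHom.mem_ker.1 z.2.2))⟩
  have he : Function.Injective e := fun a b h => Subtype.ext (congrArg (fun z : σ.ker => ((z : U) : Gp)) h)
  refine (Nat.card_le_card_of_injective e he).trans ?_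
  have hq : Nat.card (U ⧸ σ.ker) = Nat.card (U.map piA) :=
    Nat.card_congr (QuotientGroup.quotientKerEquivOfSurjective σ hσ).toEquiv
  have hm := Subgroup.card_eq_card_quotient_mul_card_subgroup σ.ker
  rw [hq] at hm
  have h1 : 504000 * Nat.card σ.ker ≤ 504000 * k :=
    (Nat.mul_le_mul_right _ map_U_ge).trans (hm.symm.trans_le hcard)
  exact Nat.le_of_mul_le_mul_left h1 (by norm_num)

theorem topImg_ok : ((List.range 351).all fun i => force (top.facts.at i) fun F =>
    force (topImg.at (F % 1048576)) fun q => Nat.beq (topImg.at (i + 1)) (act1408.im q (F >>> 40)) &&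
      !(blockPts.contains (topImg.at (i + 1)))) = true := by decide +kernel

theorem topImg_zero : topImg.at 0 = 0 ∧ blockPts.contains 0 = true := by decide +kernel

theorem fromWords_wN : ∀ s < 6, fromWords g wN s = g s := by
  intro s hs
  have h1 : g 1 = (g 0)⁻¹ := g_paired 0
  have h3 : g 3 = (g 2)⁻¹ := g_paired 2
  have h5 : g 5 = (g 4)⁻¹ := g_paired 4
  interval_cases s <;> simp [fromWords, wN, ev, h1, h3, h5, show Nat.beq 1 0 = false from rfl]

/-- The base point. -/
def pt0 : Fin act1408.N := ⟨0, by decide⟩

theorem rep_img : ∀ b < 352, ((piA (top.rep (fromWords g wN) b))⁻¹ pt0 : ℕ) = topImg.at b := by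
  intro b
  induction b using Nat.strong_induction_on with
  | _ b ih =>
    intro hb
    rcases b with _ | i
    · rw [top.rep_zero, map_one, inv_one, topImg_zero.1]; rfl
    · have hM : i + 1 < top.M := lt_trans hb (by decide)
      have h := top_defs i hM
      simp only [Log.chkDef, force_eq, Bool.and_eq_true, Nat.ble_eq, Nat.beq_eq, Nat.blt_eq] at h
      obtain ⟨⟨ha, -⟩, hs⟩ := h
      have hs6 : top.facts.at i >>> 40 < 6 := hs
      have e : top.rep (fromWords g wN) (i + 1) =
          top.rep (fromWords g wN) (top.facts.at i % 1048576) * g (top.facts.at i >>> 40) := by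
        rw [← fromWords_wN _ hs6]
        show top.repAux (fromWords g wN) (i + 1) (i + 1) = _
        rw [Log.repAux, if_neg (Nat.add_one_ne_zero i), Nat.add_sub_cancel,
          top.repAux_eq _ top_defs i _ (lt_of_le_of_lt ha (by omega)) ha]
        rfl
      have h2 := List.all_eq_true.1 topImg_ok i (List.mem_range.2 (by omega))
      simp only [force_eq, Bool.and_eq_true, Nat.beq_eq] at h2
      rw [h2.1, e, map_mul, mul_inv_rev, Equiv.Perm.mul_apply]
      rw [show (piA (g (top.facts.at i >>> 40)))⁻¹ = act1408.permP ((top.facts.at i >>> 40) ^^^ 1) from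
        (act1408.permP_paired _).symm]
      rw [← ih _ (Nat.lt_succ_of_le ha) (by omega)]
      have hg := act1408.goodAt_flip (act1408.goodAt_of_chk rfl act1408_inv hs6)
      unfold Act.permP
      rw [dif_pos hg]
      show act1408.im _ ((top.facts.at i >>> 40 ^^^ 1) ^^^ 1) = _
      rw [Act.xor_one_one]

theorem mem_wN {s : ℕ} (hs : s < 6) : g s ∈ val g wN := fromWords_wN s hs ▸ fromWords_mem s

theorem rep_cover (y : Gp) (hy : y ∈ val g wN) :
    ∃ b < 352, y * (top.rep (fromWords g wN) b)⁻¹ ∈ val g wU := by
  set V := val g wN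
  let g' : ℕ → V := fun s => ⟨fromWords g wN s, fromWords_mem s⟩
  have hp : Paired g' := fun s => Subtype.ext (fromWords_paired g wN s)
  have hgen : Subgroup.closure {x | ∃ s < 6, g' s = x} = ⊤ := by
    rw [← (Subgroup.map_injective V.subtype_injective).eq_iff, ← MonoidHom.range_eq_map, V.range_subtype,
      MonoidHom.map_closure]
    refine le_antisymm ((Subgroup.closure_le _).2 ?_) ((Subgroup.closure_le _).2 ?_)
    · rintro _ ⟨_, ⟨s, -, rfl⟩, rfl⟩
      exact (g' s).2
    · rintro _ ⟨w, hw, rfl⟩
      simp only [wN, List.mem_cons, List.not_mem_nil, or_false] at hw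
      rcases hw with rfl | rfl | rfl
      · exact Subgroup.subset_closure ⟨g' 0, ⟨0, by norm_num, rfl⟩, rfl⟩
      · exact Subgroup.subset_closure ⟨g' 2, ⟨2, by norm_num, rfl⟩, rfl⟩
      · exact Subgroup.subset_closure ⟨g' 4, ⟨4, by norm_num, rfl⟩, rfl⟩
  have hlift : ∀ w, ((ev g' w : V) : Gp) = ev (fromWords g wN) w := fun w => ev_map V.subtype g' w
  have hr : ∀ f b, ((top.repAux g' f b : V) : Gp) = top.repAux (fromWords g wN) f b := by
    intro f
    induction f with
    | zero => intro b; rfl
    | succ f ih =>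
      intro b
      rw [Log.repAux, Log.repAux]
      split_ifs
      · rfl
      · rw [Subgroup.coe_mul, ih]
  obtain ⟨b, hb, hm⟩ := top.exists_repP top_checks (by decide) (H := (val g wU).subgroupOf V) hp hgen
    (fun w hw => Subtype.ext ((hlift w).trans
      (rels_ok known_C top_derived (by decide +kernel) w hw)))
    (fun w hw => Subgroup.mem_subgroupOf.2 (by
      rw [hlift]; exact sub_ok (L' := wU) (by decide +kernel) w hw)) ⟨y, hy⟩
  refine ⟨b, hb, ?_⟩
  have hb' : ((top.rep g' b : V) : Gp) = top.rep (fromWords g wN) b := hr b b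
  have := Subgroup.mem_subgroupOf.1 hm
  rwa [Subgroup.coe_mul, Subgroup.coe_inv, hb'] at this

theorem kernel_le_U : val g wN ⊓ piA.ker ≤ val g wU := by
  rintro k ⟨hk, hker⟩
  obtain ⟨b, hb, hu⟩ := rep_cover k hk
  set r := top.rep (fromWords g wN) b with hr
  have he : piA (k * r⁻¹) = (piA r)⁻¹ := by rw [map_mul, MonoidHom.mem_ker.1 hker, one_mul, map_inv]
  have hmem : (piA r)⁻¹ pt0 ∈ ptSet blockPts := by
    rw [← image_ptSet set_U _ hu, he]
    exact Set.mem_image_of_mem _ (List.contains_iff_mem.1 topImg_zero.2)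
  rcases b with _ | i
  · rwa [hr, top.rep_zero, inv_one, mul_one] at hu
  · exfalso
    have h2 := List.all_eq_true.1 topImg_ok i (List.mem_range.2 (by omega))
    simp only [force_eq, Bool.and_eq_true, Bool.not_eq_true'] at h2
    have hc : blockPts.contains (topImg.at (i + 1)) = true :=
      List.contains_iff_mem.2 (rep_img (i + 1) hb ▸ hmem)
    rw [h2.2] at hc
    exact Bool.false_ne_true hc

/-- Letters inverting in a count. -/
def parity (e : ℕ → Bool) : List ℕ → Bool
  | [] => false
  | s :: w => xor (e s) (parity e w)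

theorem conj_ev {k : Gp} {e : ℕ → Bool} (h : ∀ s, g s * k * (g s)⁻¹ = bif e s then k⁻¹ else k) :
    ∀ w, ev g w * k * (ev g w)⁻¹ = bif parity e w then k⁻¹ else k
  | [] => by simp [ev, parity]
  | s :: w => by
    rw [ev, show g s * ev g w * k * (g s * ev g w)⁻¹ = g s * (ev g w * k * (ev g w)⁻¹) * (g s)⁻¹ by group,
      conj_ev h w, parity]
    have h' : g s * k⁻¹ * (g s)⁻¹ = (bif e s then k⁻¹ else k)⁻¹ := by rw [← h s]; group
    cases parity e w <;> cases hes : e s <;> simp only [Bool.cond_true, Bool.cond_false, hes] at h' ⊢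
    all_goals first
      | exact (h s).trans (by rw [hes]; rfl)
      | simpa using h'

/-- Two elements centralised by the first two generators. -/
theorem kernel_commutes {k : Gp} (hk : k ∈ val g wN ⊓ piA.ker) :
    g 0 * k = k * g 0 ∧ g 2 * k = k * g 2 := by
  obtain ⟨hfin, hcard⟩ := kernel_U_le (k := 3) (bound_U bound_W)
  set K := val g wU ⊓ piA.ker
  by_cases hk1 : k = 1
  · simp [hk1]
  have hkK : k ∈ K := ⟨kernel_le_U hk, hk.2⟩
  have hother : ∀ c ∈ K, c ≠ 1 → c = k ∨ c = k⁻¹ := by
    classical
    have : Fintype K := Fintype.ofFinite K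
    intro c hc hc1
    by_contra hcon
    push Not at hcon
    by_cases hkk : k = k⁻¹
    · have h2 : k ^ 2 = 1 := by rw [pow_two]; exact mul_eq_one_iff_eq_inv.2 hkk
      have ho : orderOf (⟨k, hkK⟩ : K) = 2 :=
        orderOf_eq_prime (Subtype.ext h2) (fun e => hk1 (congrArg Subtype.val e))
      obtain ⟨q, hq⟩ : 2 ∣ Nat.card K := ho ▸ orderOf_dvd_natCard _
      have hnd : ([1, ⟨k, hkK⟩, ⟨c, hc⟩] : List K).Nodup := by
        simp [Subtype.ext_iff, hk1, hc1, Ne.symm hk1, Ne.symm hc1, Ne.symm hcon.1]
      have := hnd.length_le_card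
      simp only [List.length_cons, List.length_nil] at this
      rw [← Nat.card_eq_fintype_card] at this
      omega
    · have hkk' : k⁻¹ ≠ k := fun e => hkk e.symm
      have hki : k⁻¹ ≠ 1 := fun e => hk1 (inv_eq_one.1 e)
      have hnd : ([1, ⟨k, hkK⟩, ⟨k⁻¹, inv_mem hkK⟩, ⟨c, hc⟩] : List K).Nodup := by
        simp [Subtype.ext_iff, hk1, hc1, Ne.symm hk1, Ne.symm hc1, Ne.symm hki, Ne.symm hkk', Ne.symm hcon.1,
          Ne.symm hcon.2]
      have := hnd.length_le_card
      simp only [List.length_cons, List.length_nil] at this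
      rw [← Nat.card_eq_fintype_card] at this
      omega
  have hconj : ∀ a ∈ val g wN, a * k * a⁻¹ = k ∨ a * k * a⁻¹ = k⁻¹ := fun a ha => by
    have hm : a * k * a⁻¹ ∈ val g wN ⊓ piA.ker :=
      Subgroup.mem_inf.2 ⟨(val g wN).mul_mem ((val g wN).mul_mem ha hk.1) ((val g wN).inv_mem ha),
        (MonoidHom.normal_ker piA).conj_mem k hk.2 a⟩
    refine hother _ ⟨kernel_le_U hm, hm.2⟩ fun e => hk1 ?_
    have := congrArg (fun y => a⁻¹ * y * a) e
    simpa [mul_assoc] using this
  classical
  let e : ℕ → Bool := fun s => decide (s / 2 < 3 ∧ g (2 * (s / 2)) * k * (g (2 * (s / 2)))⁻¹ ≠ k)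
  have he : ∀ s, g s * k * (g s)⁻¹ = bif e s then k⁻¹ else k := by
    intro s
    by_cases hs : s / 2 < 3
    · have hpos : g (2 * (s / 2)) * k * (g (2 * (s / 2)))⁻¹ = bif e s then k⁻¹ else k := by
        by_cases hc : g (2 * (s / 2)) * k * (g (2 * (s / 2)))⁻¹ = k
        · rw [show e s = false from by simp [e, hc]]; exact hc
        · rw [show e s = true from by simp [e, hc, hs]]
          exact (hconj _ (mem_wN (by omega))).resolve_left hc
      rcases Nat.mod_two_eq_zero_or_one s with hp | hp
      · rwa [show 2 * (s / 2) = s by omega] at hpos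
      · have hs' : g s = (g (2 * (s / 2)))⁻¹ := by
          rw [← g_paired, Nat.xor_one_of_even (by exact ⟨s / 2, by omega⟩)]
          congr 1
          omega
        rw [hs', inv_inv]
        cases hes : e s <;> rw [hes] at hpos <;> simp only [Bool.cond_true, Bool.cond_false] at hpos ⊢
        · conv_lhs => rw [← hpos]
          group
        · calc (g (2 * (s / 2)))⁻¹ * k * g (2 * (s / 2))
              = (g (2 * (s / 2)))⁻¹ * (g (2 * (s / 2)) * k * (g (2 * (s / 2)))⁻¹)⁻¹ * g (2 * (s / 2)) := by
                rw [hpos, inv_inv]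
            _ = k⁻¹ := by group
    · have h1 : g s = 1 := by
        refine Prod.ext ?_ (Prod.ext ?_ ?_)
        · show gHN s = 1
          rcases h : s / 2 with _ | _ | _ | m
          · omega
          · omega
          · omega
          · simp [gHN, h, hgen]
        · show act1408.permP s = 1
          unfold Act.permP
          rw [dif_neg fun h => absurd h.1 (show ¬ s < 6 by omega)]
        · show act100.permP s = 1
          unfold Act.permP
          rw [dif_neg fun h => absurd h.1 (show ¬ s < 6 by omega)]
      simp [h1, e, hs]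
  have hrel : ∀ w ∈ relWords, parity e w = true → k = k⁻¹ := fun w hw hp => by
    have := conj_ev he w
    rw [rel_holds w hw, hp] at this
    simpa using this
  have e1 : e 1 = e 0 := by simp [e]
  have e3 : e 3 = e 2 := by simp [e]
  have e5 : e 5 = e 4 := by simp [e]
  have hcomm : ∀ s, (e s = false ∨ k = k⁻¹) → g s * k = k * g s := fun s hs => by
    have := he s
    rcases hs with hs | hs
    · rw [hs, Bool.cond_false] at this
      exact mul_inv_eq_iff_eq_mul.1 this
    · rw [← hs, Bool.cond_self] at this
      exact mul_inv_eq_iff_eq_mul.1 this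
  refine ⟨hcomm 0 ?_, hcomm 2 ?_⟩
  · cases h0 : e 0
    · exact Or.inl rfl
    refine Or.inr (hrel (relWords.getD 9 []) (by decide) ?_)
    rw [show relWords.getD 9 [] = [4] ++ (List.replicate 3 [3, 1, 3, 1, 3, 3, 3, 4, 2, 2, 2, 0, 2, 0, 2, 0]).flatten
      from by decide]
    cases h2 : e 2 <;> cases h4 : e 4 <;> simp [parity, List.replicate, e1, e3, h0, h2, h4]
  · cases h2 : e 2
    · exact Or.inl rfl
    refine Or.inr (hrel (relWords.getD 3 []) (by decide) ?_)
    cases h0 : e 0 <;> simp [relWords, parity, List.replicate, e1, h0, h2]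

/-- The word of the kernel. -/
def kWord : List ℕ := (lkLoops.getD 0 ([], 0, 0)).1

/-- The words of all certificates. -/
def knownK : List (List ℕ) :=
  knownW ++ [[1] ++ invWord kWord ++ [0] ++ kWord, [3] ++ invWord kWord ++ [2] ++ kWord]

theorem kWord_facts : (kWord.all fun s => [[0], [2]].contains [s] || [[1], [3]].contains [s]) = true := by
  decide +kernel

theorem kWord_fix : ∀ p < act1408.N, act1408.chkFixP [kWord] p = true := by
  refine of_blocks (size := 128) (b := 11) (by decide) (by decide) fun j hj => ?_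
  interval_cases j <;> decide +kernel

theorem kWord_lt : ∀ s ∈ kWord, s < 4 := fun s hs => by
  have := List.all_eq_true.1 kWord_facts s hs
  simp only [Bool.or_eq_true, List.contains_iff_mem, List.mem_cons, List.cons.injEq, and_true, List.not_mem_nil,
    or_false] at this
  omega

theorem known_comm : Known [[1] ++ invWord kWord ++ [0] ++ kWord, [3] ++ invWord kWord ++ [2] ++ kWord] := by
  have hk : ev g kWord ∈ val g wN ⊓ piA.ker := by
    refine ⟨ev_mem _ fun s hs => mem_wN (lt_trans (kWord_lt s hs) (by norm_num)), MonoidHom.mem_ker.2 ?_⟩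
    refine Equiv.ext fun p => Fin.ext ?_
    rw [homA.apply_ev _ (fun s hs => lt_trans (kWord_lt s hs) (by decide))]
    have := List.all_eq_true.1 (kWord_fix p p.2) kWord (List.mem_singleton_self _)
    exact Nat.eq_of_beq_eq_true this
  obtain ⟨h0, h2⟩ := kernel_commutes hk
  have key : ∀ s, g s * ev g kWord = ev g kWord * g s → ev g ([s ^^^ 1] ++ invWord kWord ++ [s] ++ kWord) = 1 :=
    fun s hc => by
      simp only [ev_append, ev_invWord g_paired]
      simp only [ev, mul_one, g_paired s]
      rw [mul_assoc _ (g s) (ev g kWord), hc]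
      group
  intro w hw
  simp only [List.mem_cons, List.not_mem_nil, or_false] at hw
  rcases hw with rfl | rfl
  · exact key 0 h0
  · exact key 2 h2

theorem known_K : Known knownK := Known.append known_W known_comm

theorem known_k : Known (lkLoops.map fun o => flat wU o.1) :=
  loops_known (L' := [[2]]) (pts := [4]) lk_defs lk_facts known_K lk_derived
    (by decide +kernel) (by decide +kernel) lk_loops det_y (by decide +kernel)

theorem bound_U_exact : BoundW g wU (504000 * 1) :=
  bound_U (step_known bound_H w2_checks rfl (Known.append known_W known_k) w2_derived (by decide +kernel)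
    (by decide +kernel) : BoundW g wW (420 * 24))

theorem piA_injective : ∀ y ∈ val g wN, piA y = 1 → y = 1 := by
  intro y hy h
  obtain ⟨hfin, hle⟩ := kernel_U_le bound_U_exact
  have hm : y ∈ (val g wU ⊓ piA.ker : Subgroup Gp) := ⟨kernel_le_U ⟨hy, MonoidHom.mem_ker.2 h⟩, MonoidHom.mem_ker.2 h⟩
  have := (Finite.card_le_one_iff_subsingleton.1 hle).elim ⟨y, hm⟩ 1
  exact congrArg Subtype.val this

theorem top_N : top.N = 352 := by decide +kernel

theorem bound_N : Finite (val g wN) ∧ Nat.card (val g wN) ≤ 352 * 504000 := by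
  have h := step_known bound_U_exact top_checks rfl known_C top_derived (L := wN) (L' := wU) (by decide +kernel)
    (by decide +kernel)
  rw [top_N, Nat.mul_one] at h
  exact h

end Cfsg.Agent.Spor.Cos.HNSub
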