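/-! The transpositions of the outer involution. -/

set_option autoImplicit false

namespace Cfsg.Agent.Spor.Cos.HNSub

/-- Thirty-five pairs. -/
def swapPts : List (Nat × Nat) := [(0, 54), (1, 46), (2, 86), (3, 67), (4, 55), (5, 77), (6, 98), (7, 47), (8, 93), (10, 58), (11, 69), (13, 97), (15, 43), (17, 85), (18, 78), (20, 65), (22, 61), (23, 99), (25, 76), (26, 91), (27, 40), (29, 30), (35, 88), (36, 73), (38, 95), (41, 57), (42, 53), (45, 81), (49, 82), (51, 63), (56, 62), (66, 80), (70, 79), (71, 92), (72, 90)]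

end Cfsg.Agent.Spor.Cos.HNSub
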