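import Cfsg.Agent.Lib.Spor.Cos.HNSub.Setting
import Cfsg.Agent.Lib.Spor.Cos.HNSub.SwapData
import Cfsg.Agent.Lib.Spor.Cos.HSOut.Main

/-!
The permutations on 100 points contain the group of the 100 vectors, with an odd involution outside it.
-/

set_option autoImplicit false
set_option maxRecDepth 100000
set_option maxHeartbeats 1000000

namespace Cfsg.Agent.Spor.Cos.HNSub

open Cfsg.Agent.Spor.Cos

/-- The simple group on the 100 points. -/
noncomputable def piH : HSOut.H →* Equiv.Perm (Fin act100.N) := HSOut.pi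

/-- The first point. -/
def base0 : Fin act100.N := ⟨0, by decide⟩

theorem piH_injective : Function.Injective piH := HSOut.pi_injective

theorem piH_apply (w : List ℕ) (hl : ∀ s ∈ w, s < 3) (p : Fin act100.N) :
    (piH (ev HSOut.g w) p : ℕ) = HSOut.actA.go w p := HSOut.homA.apply_ev w hl p

theorem piH_gen {i : ℕ} (hi : i < 3) (p : Fin act100.N) : (piH (HSOut.g i) p : ℕ) = HSOut.actA.im p i :=
  (congrArg (fun σ : Equiv.Perm (Fin HSOut.actA.N) => (σ p : ℕ)) (HSOut.homA.gen i)).trans
    (HSOut.actA.perm_apply HSOut.act_inv hi p)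

theorem piH_trans (p : Fin act100.N) : ∃ y : HSOut.H, piH y base0 = p := HSOut.trA p

/-- The image of the simple group. -/
noncomputable def HP : Subgroup (Equiv.Perm (Fin act100.N)) := piH.range

theorem hWords_ok : ((List.range 3).all fun i => (hWords.getD i []).all (fun s => Nat.blt s 6) &&
    (List.range 100).all fun p => Nat.beq (act100.goP (hWords.getD i []) p) (HSOut.actA.im p i)) = true := by
  decide +kernel

theorem cWords_ok : ((List.range 2).all fun i => (cWords.getD i []).all (fun s => Nat.blt s 3) &&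
    (List.range 100).all fun p => Nat.beq (act100.goP [2 * i] p) (HSOut.actA.go (cWords.getD i []) p)) = true := by
  decide +kernel

theorem hWord_perm {i : ℕ} (hi : i < 3) :
    (∀ s ∈ hWords.getD i [], s < 6) ∧ piB (ev g (hWords.getD i [])) = piH (HSOut.g i) := by
  have h := List.all_eq_true.1 hWords_ok i (List.mem_range.2 hi)
  simp only [Bool.and_eq_true, List.all_eq_true, List.mem_range] at h
  have hl : ∀ s ∈ hWords.getD i [], s < 6 := fun s hs => Nat.le_of_ble_eq_true (h.1 s hs)
  refine ⟨hl, Equiv.ext fun p => Fin.ext ?_⟩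
  rw [homB.apply_ev _ hl, piH_gen hi]
  exact Nat.eq_of_beq_eq_true (h.2 p p.2)

theorem cWord_perm {i : ℕ} (hi : i < 2) : piB (g (2 * i)) ∈ HP := by
  have h := List.all_eq_true.1 cWords_ok i (List.mem_range.2 hi)
  simp only [Bool.and_eq_true, List.all_eq_true, List.mem_range] at h
  refine ⟨ev HSOut.g (cWords.getD i []), Equiv.ext fun p => Fin.ext ?_⟩
  rw [piH_apply _ (fun s hs => Nat.le_of_ble_eq_true (h.1 s hs)),
    show g (2 * i) = ev g [2 * i] by simp [ev],
    homB.apply_ev _ (fun s hs => by simp only [List.mem_singleton] at hs; subst hs; show _ < 6; omega)]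
  exact (Nat.eq_of_beq_eq_true (h.2 p p.2)).symm

theorem HP_le_map : HP ≤ (val g [[0], [2], [4]]).map piB := by
  rw [HP, MonoidHom.range_eq_map, ← HSOut.g_gen, MonoidHom.map_closure, Subgroup.closure_le]
  rintro _ ⟨_, ⟨i, hi, rfl⟩, rfl⟩
  obtain ⟨hl, he⟩ := hWord_perm hi
  refine ⟨_, ev_mem (H := val g [[0], [2], [4]]) _ (fun s hs => ?_), he⟩
  have hm : ∀ t ∈ [0, 2, 4], g t ∈ val g [[0], [2], [4]] := fun t ht => by
    have hw : [t] ∈ [[0], [2], [4]] := by
      simp only [List.mem_cons, List.not_mem_nil, or_false] at ht ⊢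
      rcases ht with rfl | rfl | rfl <;> simp
    simpa [ev] using mem_val (g := g) hw
  have h6 := hl s hs
  interval_cases s
  · exact hm 0 (by simp)
  · exact (g_paired 0).symm ▸ inv_mem (hm 0 (by simp))
  · exact hm 2 (by simp)
  · exact (g_paired 2).symm ▸ inv_mem (hm 2 (by simp))
  · exact hm 4 (by simp)
  · exact (g_paired 4).symm ▸ inv_mem (hm 4 (by simp))

theorem card_HP : Nat.card HP = 44352000 :=
  (Nat.card_congr (MonoidHom.ofInjective piH_injective).toEquiv).symm.trans HSOut.card_H

/-- Follow transpositions. -/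
def swapGo : List (ℕ × ℕ) → ℕ → ℕ
  | [], p => p
  | o :: L, p => (fun q => bif Nat.beq q o.1 then o.2 else bif Nat.beq q o.2 then o.1 else q) (swapGo L p)

/-- The transpositions as permutations. -/
def swapPerm (o : ℕ × ℕ) : Equiv.Perm (Fin act100.N) :=
  if h : o.1 < act100.N ∧ o.2 < act100.N then Equiv.swap ⟨o.1, h.1⟩ ⟨o.2, h.2⟩ else 1

theorem swapGo_apply : ∀ L : List (ℕ × ℕ), (∀ o ∈ L, o.1 < act100.N ∧ o.2 < act100.N) → ∀ p : Fin act100.N,
    ((L.map swapPerm).prod p : ℕ) = swapGo L p
  | [], _, p => by simp [swapGo]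
  | o :: L, h, p => by
    have ho := h o (List.mem_cons_self ..)
    have ih := swapGo_apply L (fun q hq => h q (List.mem_cons_of_mem _ hq)) p
    rw [List.map_cons, List.prod_cons, Equiv.Perm.mul_apply, swapGo, ← ih, swapPerm, dif_pos ho]
    generalize (L.map swapPerm).prod p = q
    show _ = (bif Nat.beq (q : ℕ) o.1 then o.2 else bif Nat.beq (q : ℕ) o.2 then o.1 else (q : ℕ))
    rw [Equiv.swap_apply_def]
    by_cases h1 : (q : ℕ) = o.1
    · rw [if_pos (Fin.ext h1), show Nat.beq (q : ℕ) o.1 = true from Nat.beq_eq.mpr h1]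
      rfl
    · rw [if_neg (fun e => h1 (congrArg Fin.val e)),
        show Nat.beq (q : ℕ) o.1 = false from Bool.eq_false_iff.2 fun e => h1 (Nat.beq_eq.mp e)]
      by_cases h2 : (q : ℕ) = o.2
      · rw [if_pos (Fin.ext h2), show Nat.beq (q : ℕ) o.2 = true from Nat.beq_eq.mpr h2]
        rfl
      · rw [if_neg (fun e => h2 (congrArg Fin.val e)),
          show Nat.beq (q : ℕ) o.2 = false from Bool.eq_false_iff.2 fun e => h2 (Nat.beq_eq.mp e)]
        rfl

theorem swap_ok : (swapPts.all fun o => Nat.blt o.1 100 && Nat.blt o.2 100 && !(Nat.beq o.1 o.2)) = true ∧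
    ((List.range 100).all fun p => Nat.beq (act100.goP [4] p) (swapGo swapPts p)) = true ∧ swapPts.length = 35 := by
  decide +kernel

theorem sign_z : Equiv.Perm.sign (piB (g 4)) = -1 := by
  obtain ⟨h1, h2, h3⟩ := swap_ok
  have hlt : ∀ o ∈ swapPts, o.1 < act100.N ∧ o.2 < act100.N := fun o ho => by
    have := List.all_eq_true.1 h1 o ho
    simp only [Bool.and_eq_true] at this
    exact ⟨Nat.le_of_ble_eq_true this.1.1, Nat.le_of_ble_eq_true this.1.2⟩
  have e : piB (g 4) = (swapPts.map swapPerm).prod := by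
    refine Equiv.ext fun p => Fin.ext ?_
    rw [show g 4 = ev g [4] by simp [ev], homB.apply_ev _ (fun s hs => by simp only [List.mem_singleton] at hs; subst hs; decide),
      swapGo_apply _ hlt]
    exact Nat.eq_of_beq_eq_true (List.all_eq_true.1 h2 p (List.mem_range.2 p.2))
  rw [e, map_list_prod, List.map_map, List.map_congr_left (g := fun _ => (-1 : ℤˣ))]
  · rw [List.map_const', List.prod_replicate, h3]; decide
  · intro o ho
    have := List.all_eq_true.1 h1 o ho
    simp only [Bool.and_eq_true, Bool.not_eq_true'] at this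
    show Equiv.Perm.sign (swapPerm o) = -1
    rw [swapPerm, dif_pos (hlt o ho)]
    refine Equiv.Perm.sign_swap fun e => ?_
    have e2 : o.1 = o.2 := congrArg Fin.val e
    rw [e2, Nat.beq_refl] at this
    exact absurd this.2 (by simp)

theorem sign_HP {σ : Equiv.Perm (Fin act100.N)} (h : σ ∈ HP) : Equiv.Perm.sign σ = 1 := by
  obtain ⟨y, rfl⟩ := h
  have := HSOut.isSimple
  let f : HSOut.H →* ℤˣ := Equiv.Perm.sign.comp piH
  rcases (MonoidHom.normal_ker f).eq_bot_or_eq_top with hb | ht
  · exfalso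
    have hi : Function.Injective f := (MonoidHom.ker_eq_bot_iff f).1 hb
    have := Nat.card_le_card_of_injective f hi
    rw [HSOut.card_H, Nat.card_eq_fintype_card, Fintype.card_units_int] at this
    omega
  · exact MonoidHom.mem_ker.1 (ht ▸ Subgroup.mem_top y : y ∈ f.ker)

theorem z_not_mem : piB (g 4) ∉ HP := fun h => by
  have := sign_HP h
  rw [sign_z] at this
  exact absurd this (by decide)

theorem stab_ok : (stabWords.all fun w => w.all (fun s => Nat.blt s 3) && Nat.beq (HSOut.actA.go w 0) 0) = true ∧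
    ((List.range 100).all fun p => Nat.beq p 0 || stabWords.any fun w => !(Nat.beq (HSOut.actA.go w p) p)) = true := by
  decide +kernel

/-- A permutation centralising the simple group is trivial. -/
theorem eq_one_of_comm {σ : Equiv.Perm (Fin act100.N)} (h : ∀ τ ∈ HP, σ * τ = τ * σ) : σ = 1 := by
  have hc : ∀ (y : HSOut.H) (p : Fin act100.N), σ (piH y p) = piH y (σ p) := fun y p =>
    Equiv.Perm.ext_iff.1 (h _ ⟨y, rfl⟩) p
  have h0 : σ base0 = base0 := by
    by_contra hne
    have hp := List.all_eq_true.1 stab_ok.2 (σ base0 : ℕ) (List.mem_range.2 (σ base0).2)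
    rcases Bool.or_eq_true_iff.1 hp with hp | hp
    · exact hne (Fin.ext (Nat.eq_of_beq_eq_true hp))
    · obtain ⟨w, hw, hn⟩ := List.any_eq_true.1 hp
      have hs := List.all_eq_true.1 stab_ok.1 w hw
      simp only [Bool.and_eq_true, List.all_eq_true] at hs
      have hl : ∀ s ∈ w, s < 3 := fun s hs' => Nat.le_of_ble_eq_true (hs.1 s hs')
      have hfix : piH (ev HSOut.g w) base0 = base0 :=
        Fin.ext ((piH_apply w hl _).trans (Nat.eq_of_beq_eq_true hs.2))
      have := hc (ev HSOut.g w) base0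
      rw [hfix] at this
      have h' := congrArg Fin.val this
      rw [piH_apply w hl] at h'
      rw [← h', Nat.beq_refl] at hn
      exact absurd hn (by simp)
  refine Equiv.ext fun p => ?_
  obtain ⟨y, rfl⟩ := piH_trans p
  rw [hc, h0]
  rfl

end Cfsg.Agent.Spor.Cos.HNSub
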