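import Cfsg.Agent.Lib.Spor.Cos.HNSub.RepCheck
import Cfsg.Agent.Lib.Spor.Cos.PairStep
import Cfsg.Prelude.Def_Spor_HN

/-! A representation of the presented Harada–Norton group in which the square of the first generator is not one. -/

set_option autoImplicit false
set_option maxRecDepth 100000
set_option linter.unusedSimpArgs false

open Cfsg.Agent.Spor.Cos Cfsg.Spor

namespace Cfsg.Agent.Spor.Cos.HNSub.Mat133

/-- The general linear group in question. -/
abbrev G133 : Type := GL (Fin 133) (ZMod 41)

theorem small_unit : Small unitMat := by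
  refine ⟨unit_lt, fun r hr j hj => ?_⟩
  rw [entriesAre_spec unit_ok hr hj]
  split <;> norm_num

theorem toMat_unit : toMat unitMat = 1 := by
  refine Matrix.ext fun r j => ?_
  rw [toMat, entriesAre_spec unit_ok r.2 j.2, Matrix.one_apply]
  by_cases h : r = j
  · subst h; simp
  · rw [if_neg (fun e => h (Fin.ext e)), if_neg h, Nat.cast_zero]

theorem mulMat_zero (l : List ℕ) : mulMat 0 l = 0 := by
  have h : prodFold l 0 0 0 = 0 := by
    rw [prodFold_eq]
    simp only [Nat.zero_shiftRight, Nat.zero_and, zero_mul, Finset.sum_const_zero, add_zero]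
  unfold mulMat
  rw [h, reduceMat_eq]
  generalize residues 0 = R
  generalize Nat.div (Nat.sub 0 R) 41 = Q
  by_contra hne
  obtain ⟨e, -, -, h3, -⟩ := pickResidue_spec hne
  exact hne (e.trans (Nat.add_eq_zero_iff.1 h3).1)

theorem blt_spec {a b : ℕ} (h : Nat.blt a b = true) : a < b := Nat.le_of_ble_eq_true h

theorem goMat_zero : ∀ w : List ℕ, goMat w 0 = 0
  | [] => rfl
  | s :: w => by rw [goMat_cons, mulMat_zero, goMat_zero w]

theorem goMat_nil (X : ℕ) : goMat [] X = X := rfl

theorem goMat_spec (w : List ℕ) : (∀ s ∈ w, s < 8) → ∀ X, Small X → goMat w X ≠ 0 →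
    toMat (goMat w X) = toMat X * (w.map fun s => rowsMat (gRows s)).prod := by
  induction w with
  | nil =>
    intro _ X _ _
    rw [goMat_nil, List.map_nil, List.prod_nil, Matrix.mul_one]
  | cons s w ih =>
    intro hw X hX hne
    rw [goMat_cons] at hne ⊢
    have h0 : mulMat X (gRows s) ≠ 0 := fun e => hne (by rw [e, goMat_zero])
    obtain ⟨hS, hm⟩ := mulMat_spec hX (gRows_ok s (hw s List.mem_cons_self)) h0
    rw [ih (fun t ht => hw t (List.mem_cons_of_mem _ ht)) _ hS hne, hm, List.map_cons, List.prod_cons,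
      Matrix.mul_assoc]

theorem unitMat_ne : unitMat ≠ 0 := fun e => by
  have h := entriesAre_spec unit_ok (r := 0) (j := 0) (by norm_num) (by norm_num)
  rw [e] at h
  simp [entry, digit] at h

theorem flip_lt {s : ℕ} (hs : s < 8) : s ^^^ 1 < 8 := Log.xor_one_lt (n := 8) rfl hs

theorem matPair {s : ℕ} (hs : s < 8) : rowsMat (gRows s) * rowsMat (gRows (s ^^^ 1)) = 1 := by
  have e := Nat.eq_of_beq_eq_true (List.all_eq_true.1 pair_ok s (List.mem_range.2 hs))
  have h := goMat_spec [s, s ^^^ 1] (by simp [hs, flip_lt hs]) unitMat small_unit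
    (by rw [show s ^^^ 1 = Nat.xor s 1 from rfl, e]; exact unitMat_ne)
  rw [show goMat [s, s ^^^ 1] unitMat = unitMat from e, toMat_unit] at h
  simpa using h.symm

/-- A generator in the general linear group. -/
def gl133 (s : ℕ) : G133 :=
  if h : s < 8 then ⟨rowsMat (gRows s), rowsMat (gRows (s ^^^ 1)), matPair h, by
    have := matPair (flip_lt h)
    rwa [Nat.xor_assoc, Nat.xor_self, Nat.xor_zero] at this⟩
  else 1

theorem gl133_coe {s : ℕ} (h : s < 8) :
    ((gl133 s : G133) : Matrix (Fin 133) (Fin 133) (ZMod 41)) = rowsMat (gRows s) := by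
  simp [gl133, h]

theorem ev_coe : ∀ w : List ℕ, (∀ s ∈ w, s < 8) →
    ((ev gl133 w : G133) : Matrix (Fin 133) (Fin 133) (ZMod 41)) = (w.map fun s => rowsMat (gRows s)).prod
  | [], _ => by simp [ev]
  | s :: w, h => by
    rw [ev, Units.val_mul, gl133_coe (h s List.mem_cons_self), ev_coe w fun t ht => h t (List.mem_cons_of_mem _ ht),
      List.map_cons, List.prod_cons]

theorem ev_rel {w : List ℕ} (hw : w ∈ repRels) : ev gl133 w = 1 := by
  have e := Nat.eq_of_beq_eq_true (List.all_eq_true.1 rel_ok w hw)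
  have hl : ∀ s ∈ w, s < 8 := fun s hs =>
    Nat.le_of_ble_eq_true (List.all_eq_true.1 (List.all_eq_true.1 rel_letters w hw) s hs)
  have h := goMat_spec w hl unitMat small_unit (by rw [e]; exact unitMat_ne)
  rw [e, toMat_unit, one_mul] at h
  exact Units.ext (by rw [ev_coe _ hl, ← h, Units.val_one])

theorem toMat_injOn {X : ℕ} (hX : X < 2 ^ allBits) (h : ∀ r < 133, ∀ j < 133, entry X r j < 41)
    (e : toMat X = 1) : X = unitMat := by
  rw [eq_packed hX, eq_packed unit_lt]
  refine Finset.sum_congr rfl fun r hr => ?_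
  rw [Finset.mem_range] at hr
  refine congrArg (· * (2 ^ rowBits) ^ r) (Finset.sum_congr rfl fun j hj => ?_)
  rw [Finset.mem_range] at hj
  refine congrArg (· * (2 ^ 20) ^ j) ?_
  have h1 := congrFun (congrFun (e.trans toMat_unit.symm) ⟨r, hr⟩) ⟨j, hj⟩
  have h2 := congrArg ZMod.val h1
  simp only [toMat, ZMod.val_natCast] at h2
  rw [Nat.mod_eq_of_lt (h r hr j hj), Nat.mod_eq_of_lt (by rw [entriesAre_spec unit_ok hr hj]; split <;> norm_num)] at h2
  exact h2

theorem sq_small : ((List.range 133).all fun r => force (digit rowBits (goMat [0, 0] unitMat) r) fun R =>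
    (List.range 133).all fun j => Nat.blt (digit 20 R j) 41) = true := by decide +kernel

theorem sq_lt : Nat.blt (goMat [0, 0] unitMat) (2 ^ allBits) = true := by decide +kernel

theorem sq_nonzero : Nat.beq (goMat [0, 0] unitMat) 0 = false := by decide +kernel

theorem gl133_sq_ne : gl133 0 * gl133 0 ≠ 1 := fun h => by
  have hev : ev gl133 [0, 0] = 1 := by simpa [ev] using h
  have hc := ev_coe [0, 0] (by simp)
  rw [hev, Units.val_one] at hc
  have hne : goMat [0, 0] unitMat ≠ 0 := fun e => by
    have := sq_nonzero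
    rw [e] at this
    exact absurd this (by decide)
  have hs := goMat_spec [0, 0] (by simp) unitMat small_unit hne
  rw [toMat_unit, one_mul, ← hc] at hs
  have := toMat_injOn (blt_spec sq_lt) (fun r hr j hj => by
    have h1 := List.all_eq_true.1 sq_small r (List.mem_range.2 hr)
    rw [force_eq] at h1
    exact Nat.le_of_ble_eq_true (List.all_eq_true.1 h1 j (List.mem_range.2 hj))) hs
  have h2 := sq_ne
  rw [this, Nat.beq_refl] at h2
  exact absurd h2 (by simp)

/-- The images of the generators. -/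
def repGen : HN.Gen → G133
  | .x => gl133 0
  | .y => gl133 2
  | .z => gl133 4
  | .t => gl133 6

theorem gl133_inv : gl133 1 = (gl133 0)⁻¹ ∧ gl133 3 = (gl133 2)⁻¹ ∧ gl133 5 = (gl133 4)⁻¹ ∧ gl133 7 = (gl133 6)⁻¹ := by
  refine ⟨?_, ?_, ?_, ?_⟩ <;> refine Units.ext ?_
  all_goals
    rw [gl133_coe (by norm_num)]
    simp [gl133]

theorem rep_relators : ∀ r ∈ coxRelators HN.edges ∪ {r | r ∈ HN.extra}, FreeGroup.lift repGen r = 1 := by
  have H := fun w hw => ev_rel (w := w) hw
  simp only [repRels, List.forall_mem_cons, List.replicate, List.flatten_cons, List.flatten_nil, List.cons_append,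
    List.nil_append, ev, mul_one, gl133_inv.1, gl133_inv.2.1, gl133_inv.2.2.1, gl133_inv.2.2.2] at H
  obtain ⟨h0, h1, h2, h3, h4, h5, h6, h7, h8, h9, h10, h11, h12, h13, -⟩ := H
  rintro r (h | h)
  · simp [coxRelators, HN.edges, coxNodes] at h
  · simp only [Set.mem_setOf_eq, HN.extra, List.mem_cons, List.not_mem_nil, or_false] at h
    rcases h with rfl | rfl | rfl | rfl | rfl | rfl | rfl | rfl | rfl | rfl | rfl | rfl | rfl | rfl
    all_goals simp only [HN.x, HN.y, HN.z, HN.t, map_pow, map_mul, map_inv, FreeGroup.lift_apply_of, repGen]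
    · refine Eq.trans ?_ h0; simp [pow_succ, mul_assoc]
    · refine Eq.trans ?_ h1; simp [pow_succ, mul_assoc]
    · refine Eq.trans ?_ h2; simp [pow_succ, mul_assoc]
    · refine Eq.trans ?_ h3; simp [pow_succ, mul_assoc]
    · refine Eq.trans ?_ h4; simp [pow_succ, mul_assoc]
    · refine Eq.trans ?_ h5; simp [pow_succ, mul_assoc]
    · refine Eq.trans ?_ h6; simp [pow_succ, mul_assoc]
    · refine Eq.trans ?_ h7; simp [pow_succ, mul_assoc]
    · refine Eq.trans ?_ h8; simp [pow_succ, mul_assoc]
    · refine Eq.trans ?_ h9; simp [pow_succ, mul_assoc]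
    · refine Eq.trans ?_ h10; simp [pow_succ, mul_assoc]
    · refine Eq.trans ?_ h11; simp [pow_succ, mul_assoc]
    · refine Eq.trans ?_ h12; simp [pow_succ, mul_assoc]
    · refine Eq.trans ?_ h13; simp [pow_succ, mul_assoc]

/-- The representation. -/
noncomputable def rep : Spor.HN →* G133 := PresentedGroup.toGroup rep_relators

theorem x_sq_ne_one :
    (PresentedGroup.of HN.Gen.x : Spor.HN) * PresentedGroup.of HN.Gen.x ≠ 1 := fun h => gl133_sq_ne (by
  have e := congrArg rep h
  rwa [map_mul, rep, PresentedGroup.toGroup.of, map_one] at e)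

end Cfsg.Agent.Spor.Cos.HNSub.Mat133
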