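import Cfsg.Agent.Lib.Spor.Cos.HNSub.Kernel
import Cfsg.Agent.Lib.Spor.Cos.HNSub.Points
import Cfsg.Agent.Lib.Spor.Cos.HNSub.Rep
import Cfsg.Agent.Lib.Spor.Cos.HSOut.Iso
import Cfsg.Agent.Lib.Spor.Cos.Double

/-!
The subgroup of the first three generators of the presented Harada–Norton group has a subgroup of index two
which is the nonsplit double cover of the Higman–Sims group.
-/

set_option autoImplicit false
set_option maxRecDepth 100000
set_option maxHeartbeats 1000000

open Cfsg.Agent.Spor.Cos Cfsg.Spor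

namespace Cfsg.Agent.Spor.Cos.HNSub

/-- The subgroup of the three generators. -/
noncomputable abbrev V : Subgroup Gp := val g wN

/-- The action of the subgroup on 100 points. -/
noncomputable def sB : ↥V →* Equiv.Perm (Fin act100.N) := piB.comp V.subtype

theorem mem_V {s : ℕ} (hs : s < 6) : g s ∈ V := mem_wN hs

/-- The first generator. -/
noncomputable def gX : ↥V := ⟨g 0, mem_V (by norm_num)⟩

theorem range_sB : sB.range = (val g wN).map piB := by
  rw [sB, MonoidHom.range_comp, Subgroup.range_subtype]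

theorem HP_le_range : HP ≤ sB.range := by rw [range_sB]; exact HP_le_map

theorem z_mem_range : piB (g 4) ∈ sB.range := ⟨⟨g 4, mem_V (by norm_num)⟩, rfl⟩

theorem sB_gX : sB gX ∈ HP := cWord_perm (i := 0) (by norm_num)

theorem sq_ok : ((List.range 100).all fun p => Nat.beq (act100.goP [0, 0] p) p) = true := by decide +kernel

theorem sB_sq : sB (gX * gX) = 1 := by
  refine Equiv.ext fun p => Fin.ext ?_
  rw [show sB (gX * gX) = piB (ev g [0, 0]) by simp [sB, gX, ev],
    homB.apply_ev _ (fun s hs => by simp at hs; subst hs; decide)]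
  exact Nat.eq_of_beq_eq_true (List.all_eq_true.1 sq_ok p (List.mem_range.2 p.2))

/-- The map to the presented group. -/
noncomputable def tau : ↥V →* Spor.HN := toHN.comp V.subtype

theorem tau_gX : tau gX = PresentedGroup.of HN.Gen.x := rfl

theorem tau_sq : tau (gX * gX) ≠ 1 := by
  rw [map_mul, tau_gX]
  exact Mat133.x_sq_ne_one

theorem sq_ne : gX * gX ≠ 1 := fun h => tau_sq (by rw [h, map_one])

theorem card_facts : Nat.card sB.ker = 2 ∧ HP.relIndex sB.range = 2 := by
  obtain ⟨hfin, hle⟩ := bound_N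
  have hV := (sB.ker).card_mul_index
  rw [Subgroup.index_ker] at hV
  have hP := (HP.subgroupOf sB.range).card_mul_index
  rw [Nat.card_congr (Subgroup.subgroupOfEquivOfLe HP_le_range).toEquiv, card_HP] at hP
  have hk : 2 ≤ Nat.card sB.ker := by
    have : Nontrivial sB.ker :=
      ⟨⟨gX * gX, MonoidHom.mem_ker.2 sB_sq⟩, 1, fun h => sq_ne (congrArg Subtype.val h)⟩
    exact Finite.one_lt_card
  have hr : 2 ≤ HP.relIndex sB.range := by
    have h1 : HP.relIndex sB.range ≠ 1 := fun h => z_not_mem (Subgroup.relIndex_eq_one.1 h z_mem_range)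
    have : (HP.subgroupOf sB.range).index ≠ 0 := Subgroup.index_ne_zero_of_finite
    change HP.relIndex sB.range ≠ 0 at this
    omega
  change 44352000 * HP.relIndex sB.range = _ at hP
  rw [← hP] at hV
  have h4 : Nat.card sB.ker * (44352000 * HP.relIndex sB.range) ≤ 352 * 504000 := hV ▸ hle
  have h5 : Nat.card sB.ker * HP.relIndex sB.range ≤ 4 := by
    have : 44352000 * (Nat.card sB.ker * HP.relIndex sB.range) ≤ 352 * 504000 := by
      rwa [Nat.mul_left_comm] at h4
    omega
  have a := Nat.mul_le_mul_right (HP.relIndex sB.range) hk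
  have b := Nat.mul_le_mul_left (Nat.card sB.ker) hr
  exact ⟨by omega, by omega⟩

theorem ker_eq {k : ↥V} (hk : k ∈ sB.ker) : k = 1 ∨ k = gX * gX := by
  have h := (Nat.card_eq_two_iff' (1 : sB.ker)).1 card_facts.1
  obtain ⟨w, _, hu⟩ := h
  by_cases h1 : k = 1
  · exact Or.inl h1
  have e1 := hu ⟨k, hk⟩ fun e => h1 (congrArg Subtype.val e)
  have e2 := hu ⟨gX * gX, MonoidHom.mem_ker.2 sB_sq⟩ fun e => sq_ne (congrArg Subtype.val e)
  exact Or.inr (congrArg Subtype.val (e1.trans e2.symm))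

theorem sq_central (v : ↥V) : v * (gX * gX) = gX * gX * v := by
  have hm : v * (gX * gX) * v⁻¹ ∈ sB.ker :=
    (MonoidHom.normal_ker sB).conj_mem _ (MonoidHom.mem_ker.2 sB_sq) v
  rcases ker_eq hm with h | h
  · exact absurd (conj_eq_one_iff.1 h) sq_ne
  · exact mul_inv_eq_iff_eq_mul.1 h

/-- The subgroup of index two. -/
noncomputable def K0 : Subgroup ↥V := HP.comap sB

theorem index_K0 : K0.index = 2 := by
  rw [K0, Subgroup.index_comap]
  exact card_facts.2

theorem normal_K0 : K0.Normal := Subgroup.normal_of_index_eq_two index_K0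

theorem HP_normal {a b : Equiv.Perm (Fin act100.N)} (ha : a ∈ HP) (hb : b ∈ sB.range) : b * a * b⁻¹ ∈ HP := by
  have hn : (HP.subgroupOf sB.range).Normal := Subgroup.normal_of_index_eq_two card_facts.2
  exact hn.conj_mem ⟨a, HP_le_range ha⟩ ha ⟨b, hb⟩

theorem tau_injective : Function.Injective tau := by
  rw [← MonoidHom.ker_eq_bot_iff, Subgroup.eq_bot_iff_forall]
  intro m hm
  set S := tau.ker.map sB with hS
  have hSn : ∀ a ∈ S, ∀ b ∈ sB.range, b * a * b⁻¹ ∈ S := by
    rintro _ ⟨a, ha, rfl⟩ _ ⟨b, rfl⟩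
    exact ⟨b * a * b⁻¹, (MonoidHom.normal_ker tau).conj_mem _ ha b, by simp⟩
  have hH : (S.comap piH).Normal := ⟨fun a ha b => by
    rw [Subgroup.mem_comap, map_mul, map_mul, map_inv]
    exact hSn _ ha _ (HP_le_range ⟨b, rfl⟩)⟩
  have := HSOut.isSimple
  rcases hH.eq_bot_or_eq_top with hb | ht
  · have hcen : ∀ h ∈ HP, sB m * h = h * sB m := by
      intro h hh
      obtain ⟨y, hy⟩ := hh
      have hhP : h ∈ HP := ⟨y, hy⟩
      have hmS : sB m ∈ S := ⟨m, hm, rfl⟩
      have c1 : sB m * h * (sB m)⁻¹ * h⁻¹ ∈ HP := mul_mem (HP_normal hhP ⟨m, rfl⟩) (inv_mem hhP)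
      have c2 : sB m * (h * (sB m)⁻¹ * h⁻¹) ∈ S := mul_mem hmS (hSn _ (inv_mem hmS) _ (HP_le_range hhP))
      rw [show sB m * (h * (sB m)⁻¹ * h⁻¹) = sB m * h * (sB m)⁻¹ * h⁻¹ by group] at c2
      obtain ⟨c, hc⟩ := c1
      have : c ∈ S.comap piH := by rw [Subgroup.mem_comap, hc]; exact c2
      rw [hb, Subgroup.mem_bot] at this
      rw [this, map_one] at hc
      exact mul_inv_eq_iff_eq_mul.1 (mul_inv_eq_one.1 hc.symm)
    rcases ker_eq (MonoidHom.mem_ker.2 (eq_one_of_comm hcen)) with h | h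
    · exact h
    · exact absurd (h ▸ MonoidHom.mem_ker.1 hm) tau_sq
  · exfalso
    obtain ⟨y, hy⟩ := sB_gX
    obtain ⟨a, ha, he⟩ : piH y ∈ S := (ht ▸ Subgroup.mem_top y : y ∈ S.comap piH)
    have hk : a⁻¹ * gX ∈ sB.ker := by
      rw [MonoidHom.mem_ker, map_mul, map_inv, he, hy, inv_mul_cancel]
    rcases ker_eq hk with h | h
    · have := congrArg tau h
      rw [map_mul, map_inv, MonoidHom.mem_ker.1 ha, inv_one, one_mul, map_one] at this
      exact tau_sq (by rw [map_mul, this, one_mul])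
    · have := congrArg tau h
      rw [map_mul, map_inv, MonoidHom.mem_ker.1 ha, inv_one, one_mul, map_mul, left_eq_mul] at this
      exact tau_sq (by rw [map_mul, this, one_mul])

theorem gX_mem_K0 : gX ∈ K0 := sB_gX

/-- The action of the subgroup of index two. -/
noncomputable def sK : ↥K0 →* ↥HP := (sB.comp K0.subtype).codRestrict HP fun k => k.2

theorem sK_surjective : Function.Surjective sK := fun a => by
  obtain ⟨v, hv⟩ := HP_le_range a.2
  exact ⟨⟨v, show sB v ∈ HP from hv ▸ a.2⟩, Subtype.ext hv⟩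

theorem center_K0 : Subgroup.center K0 = sK.ker := by
  ext c
  rw [Subgroup.mem_center_iff, MonoidHom.mem_ker]
  refine ⟨fun h => Subtype.ext (eq_one_of_comm fun a ha => ?_), fun h k => ?_⟩
  · obtain ⟨k, hk⟩ := sK_surjective ⟨a, ha⟩
    have := congrArg (fun u : HP => (u : Equiv.Perm (Fin act100.N))) (congrArg sK (h k))
    rw [map_mul, map_mul, hk] at this
    exact this.symm
  · rcases ker_eq (k := (c : ↥V)) (MonoidHom.mem_ker.2 (congrArg Subtype.val h)) with e | e
    · exact Subtype.ext (by simp [e])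
    · refine Subtype.ext ?_
      simp only [Subgroup.coe_mul, e]
      exact sq_central _

theorem card_center_K0 : Nat.card (Subgroup.center K0) = 2 := by
  rw [center_K0, ← card_facts.1]
  refine Nat.card_congr ?_
  refine ⟨fun c => ⟨c.1.1, MonoidHom.mem_ker.2 (congrArg Subtype.val (MonoidHom.mem_ker.1 c.2))⟩,
    fun c => ⟨⟨c.1, show sB c.1 ∈ HP by rw [MonoidHom.mem_ker.1 c.2]; exact one_mem _⟩,
      MonoidHom.mem_ker.2 (Subtype.ext (MonoidHom.mem_ker.1 c.2))⟩, fun c => rfl, fun c => rfl⟩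

theorem double_K0 : Cfsg.IsNonsplitDoubleCover K0 Cfsg.Spor.HS := by
  refine ⟨card_center_K0, ?_, fun L hL => ?_⟩
  · exact ⟨(QuotientGroup.quotientMulEquivOfEq center_K0).trans
      ((QuotientGroup.quotientKerEquivOfSurjective sK sK_surjective).trans
        ((MonoidHom.ofInjective piH_injective).symm.trans HSOut.equivHS.symm))⟩
  · have hi : L.index = 2 := by rw [hL.index_eq_card, card_center_K0]
    have h1 : (⟨gX, gX_mem_K0⟩ * ⟨gX, gX_mem_K0⟩ : ↥K0) ∈ L := Subgroup.mul_self_mem_of_index_two hi _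
    have h2 : (⟨gX, gX_mem_K0⟩ * ⟨gX, gX_mem_K0⟩ : ↥K0) ∈ Subgroup.center K0 := by
      rw [center_K0, MonoidHom.mem_ker]
      exact Subtype.ext sB_sq
    exact sq_ne (congrArg Subtype.val (Subgroup.disjoint_def.1 hL.disjoint h2 h1))

theorem tau_range : tau.range = (Subgroup.closure ({HN.x, HN.y, HN.z} : Set (FreeGroup HN.Gen))).map
    (PresentedGroup.mk (coxRelators HN.edges ∪ {r | r ∈ HN.extra})) := by
  rw [tau, MonoidHom.range_comp, Subgroup.range_subtype, V, val, MonoidHom.map_closure, MonoidHom.map_closure]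
  congr 1
  ext a
  constructor
  · rintro ⟨_, ⟨w, hw, rfl⟩, rfl⟩
    simp only [wN, List.mem_cons, List.not_mem_nil, or_false] at hw
    rcases hw with rfl | rfl | rfl
    · exact ⟨HN.x, Or.inl rfl, by simp [ev, toHN, g, gHN, hgen]; rfl⟩
    · exact ⟨HN.y, Or.inr (Or.inl rfl), by simp [ev, toHN, g, gHN, hgen]; rfl⟩
    · exact ⟨HN.z, Or.inr (Or.inr rfl), by simp [ev, toHN, g, gHN, hgen]; rfl⟩
  · rintro ⟨_, h | h | h, rfl⟩
    · subst h; exact ⟨ev g [0], ⟨[0], by simp [wN], rfl⟩, by simp [ev, toHN, g, gHN, hgen]; rfl⟩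
    · subst h; exact ⟨ev g [2], ⟨[2], by simp [wN], rfl⟩, by simp [ev, toHN, g, gHN, hgen]; rfl⟩
    · subst h; exact ⟨ev g [4], ⟨[4], by simp [wN], rfl⟩, by simp [ev, toHN, g, gHN, hgen]; rfl⟩

theorem exists_double_cover : ∃ K : Subgroup ((Subgroup.closure ({HN.x, HN.y, HN.z} : Set (FreeGroup HN.Gen))).map
    (PresentedGroup.mk (coxRelators HN.edges ∪ {r | r ∈ HN.extra}))),
    K.Normal ∧ K.index = 2 ∧ Cfsg.IsNonsplitDoubleCover K Cfsg.Spor.HS := by
  let e := (MonoidHom.ofInjective tau_injective).trans (MulEquiv.subgroupCongr tau_range)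
  refine ⟨K0.map (e : ↥V →* _), normal_K0.map _ e.surjective, ?_,
    isNonsplitDoubleCover_congr (e.subgroupMap K0) double_K0⟩
  rw [Subgroup.index_map_equiv]
  exact index_K0

end Cfsg.Agent.Spor.Cos.HNSub
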