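import Cfsg.Agent.Lib.Spor.Cos.HNSub.RepMat
import Cfsg.Agent.Lib.Spor.Cos.HNSub.RepData

/-! The eight matrices come in inverse pairs and satisfy the fourteen relations, the square of the first not one. -/

set_option autoImplicit false
set_option maxRecDepth 100000
set_option maxHeartbeats 4000000

open Cfsg.Agent.Spor.Cos

namespace Cfsg.Agent.Spor.Cos.HNSub.Mat133

/-- The rows of a generator. -/
def gRows (s : ℕ) : List ℕ := matData.getD s []

/-- Multiply by the generators of a word, the first letter first. -/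
noncomputable def goMat (w : List ℕ) : ℕ → ℕ :=
  List.rec (motive := fun _ => ℕ → ℕ) (fun X => X) (fun s _ f X => force (mulMat X (gRows s)) fun Y => f Y) w

theorem goMat_cons (s : ℕ) (w : List ℕ) (X : ℕ) : goMat (s :: w) X = goMat w (mulMat X (gRows s)) := by
  simp only [goMat, force_eq]

/-- The identity matrix, packed. -/
noncomputable def unitMat : ℕ :=
  Nat.rec (motive := fun _ => ℕ → ℕ) (fun _ => 0)
    (fun _ r i => force (r (Nat.add i 1)) fun q => Nat.add (Nat.pow 2 (Nat.mul 20 i)) (Nat.mul (Nat.pow 2 rowBits) q)) 133 0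

/-- The fourteen relators, the generators and their inverses numbered in pairs. -/
def repRels : List (List ℕ) := [
  [2, 2, 2, 2, 2, 2],
  [0, 0, 2, 0, 0, 3],
  (List.replicate 3 [1, 3, 0, 2]).flatten,
  (List.replicate 3 [1, 2, 2, 0, 2, 2, 2]).flatten,
  (List.replicate 8 [0, 2]).flatten,
  (List.replicate 4 [0, 2, 0, 2, 2, 2]).flatten,
  [4, 4],
  [4, 0, 4, 0],
  [5, 2, 1, 3, 3, 1, 3, 1, 3, 4, 2, 0, 2, 0, 2, 2, 0, 3, 1, 1],
  [4] ++ (List.replicate 3 [3, 1, 3, 1, 3, 3, 3, 4, 2, 2, 2, 0, 2, 0, 2, 0]).flatten,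
  [6, 6, 6, 6, 6],
  [1, 6, 0, 6, 6],
  [7, 3, 6, 2],
  [4, 6, 4, 6, 4, 6]]

theorem gRows_all : (List.range 8).all (fun s => chkMat (gRows s)) = true := by decide +kernel

theorem gRows_ok : ∀ s < 8, chkMat (gRows s) = true := by
  have h := gRows_all
  rw [List.all_eq_true] at h
  intro s hs
  exact h s (List.mem_range.2 hs)

theorem pair_ok : (List.range 8).all (fun s => Nat.beq (goMat [s, Nat.xor s 1] unitMat) unitMat) = true := by
  decide +kernel

theorem rel_ok : repRels.all (fun w => Nat.beq (goMat w unitMat) unitMat) = true := by decide +kernel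

theorem sq_ne : Nat.beq (goMat [0, 0] unitMat) unitMat = false := by decide +kernel

theorem rel_letters : repRels.all (fun w => w.all fun s => Nat.blt s 8) = true := by decide +kernel

theorem unit_ok : entriesAre unitMat (fun r j => if r = j then 1 else 0) = true := by decide +kernel

theorem unit_lt : unitMat < 2 ^ allBits := by decide +kernel

end Cfsg.Agent.Spor.Cos.HNSub.Mat133
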