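import Cfsg.Agent.Lib.Spor.Cos.HNSub.RepLanes

/-! Packed products are matrix products over the field of 41 elements. -/

set_option autoImplicit false
set_option maxRecDepth 100000

open Cfsg.Agent.Spor.Cos

namespace Cfsg.Agent.Spor.Cos.HNSub.Mat133

theorem testBit_digit (b X k t : ℕ) : (digit b X k).testBit t = (decide (t < b) && X.testBit (b * k + t)) := by
  rw [digit, ← pow_mul, Nat.testBit_mod_two_pow, Nat.testBit_div_two_pow, add_comm]

theorem entry_shift (X : ℕ) {i : ℕ} (hi : i < 133) (r : ℕ) : entry (X >>> (20 * i)) r 0 = entry X r i := by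
  refine Nat.eq_of_testBit_eq fun t => ?_
  simp only [entry, testBit_digit, Nat.testBit_shiftRight]
  by_cases ht : t < 20
  · have hb : rowBits = 2660 := by unfold rowBits; rfl
    simp only [ht, decide_true, Bool.true_and, hb, mul_zero, zero_add, show t < 2660 by omega,
      show 20 * i + t < 2660 by omega]
    congr 1
    omega
  · simp [ht]

theorem col_eq {X : ℕ} (hX : Small X) {i : ℕ} (hi : i < 133) :
    (X >>> (20 * i)) &&& colM = ∑ r ∈ Finset.range 133, entry X r i * (2 ^ rowBits) ^ r := by
  have hlt : (X >>> (20 * i)) &&& colM < 2 ^ allBits := lt_of_le_of_lt Nat.and_le_right colM_lt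
  rw [eq_packed hlt]
  refine Finset.sum_congr rfl fun r hr => ?_
  rw [Finset.mem_range] at hr
  rw [Finset.sum_eq_single 0]
  · rw [entry_land, colM_entry hr (by norm_num), if_pos rfl, entry_shift X hi, pow_zero, mul_one]
    congr 1
    have h8 := hX.2 r hr i hi
    generalize entry X r i = a at h8
    interval_cases a <;> rfl
  · intro j hj h0
    rw [Finset.mem_range] at hj
    rw [entry_land, colM_entry hr hj, if_neg h0, Nat.and_zero, zero_mul]
  · simp

theorem prodFold_eq (X : ℕ) : ∀ (l : List ℕ) (i a : ℕ),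
    prodFold l X i a = a + ∑ t ∈ Finset.range l.length, ((X >>> (20 * (i + t))) &&& colM) * l.getD t 0
  | [], i, a => by simp [prodFold, force_eq]
  | e :: l, i, a => by
    have h : prodFold (e :: l) X i a = prodFold l X (i + 1) (a + ((X >>> (20 * i)) &&& colM) * e) := by
      simp only [prodFold, force_eq]
      rfl
    rw [h, prodFold_eq X l, List.length_cons, Finset.sum_range_succ' (n := l.length)]
    simp only [List.getD_cons_succ, List.getD_cons_zero, add_zero, add_comm 1, add_assoc]
    rw [add_comm (((X >>> (20 * i)) &&& colM) * e)]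

/-- The matrix of a packed number. -/
def toMat (X : ℕ) : Matrix (Fin 133) (Fin 133) (ZMod 41) := fun r j => (entry X r j : ZMod 41)

/-- The matrix of packed rows. -/
def rowsMat (l : List ℕ) : Matrix (Fin 133) (Fin 133) (ZMod 41) := fun i j => (digit 20 (l.getD i 0) j : ZMod 41)

/-- Packed rows of a matrix: 133 of them, with entries below 64. -/
noncomputable def chkMat (l : List ℕ) : Bool :=
  Nat.beq l.length 133 &&
    force (rowOf 63) fun m => force (Nat.pow 2 rowBits) fun b => l.all fun e => Nat.blt e b && Nat.beq (Nat.land e m) e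

theorem rowOf_digit : ((List.range 133).all fun j => Nat.beq (digit 20 (rowOf 63) j) 63) = true := by decide +kernel

theorem mulMat_spec {X : ℕ} (hX : Small X) {l : List ℕ} (hl : chkMat l = true) (hne : mulMat X l ≠ 0) :
    Small (mulMat X l) ∧ toMat (mulMat X l) = toMat X * rowsMat l := by
  simp only [chkMat, force_eq, Bool.and_eq_true, List.all_eq_true] at hl
  obtain ⟨hlen, hrows⟩ := hl
  have hlen : l.length = 133 := Nat.eq_of_beq_eq_true hlen
  have hd : ∀ t < 133, l.getD t 0 < 2 ^ rowBits ∧ ∀ j < 133, digit 20 (l.getD t 0) j < 64 := fun t ht => by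
    rw [List.getD_eq_getElem _ _ (hlen.symm ▸ ht)]
    obtain ⟨h1, h2⟩ := hrows _ (List.getElem_mem (hlen.symm ▸ ht))
    refine ⟨Nat.le_of_ble_eq_true h1, fun j hj => ?_⟩
    rw [← Nat.eq_of_beq_eq_true h2]
    change digit 20 (_ &&& rowOf 63) j < 64
    rw [digit_land, Nat.eq_of_beq_eq_true (List.all_eq_true.1 rowOf_digit j (List.mem_range.2 hj))]
    exact Nat.lt_succ_of_le Nat.and_le_right
  set s : ℕ → ℕ → ℕ := fun r j => ∑ t ∈ Finset.range 133, entry X r t * digit 20 (l.getD t 0) j with hs
  have hbound : ∀ r < 133, ∀ j < 133, s r j < 2 ^ 20 := fun r hr j hj => by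
    refine lt_of_le_of_lt (Finset.sum_le_sum (g := fun _ => 3969) fun t ht => ?_) (by simp)
    rw [Finset.mem_range] at ht
    exact Nat.mul_le_mul (Nat.le_of_lt_succ (hX.2 r hr t ht)) (Nat.le_of_lt_succ ((hd t ht).2 j hj))
  have hS : prodFold l X 0 0 = packed s := by
    rw [prodFold_eq, zero_add, hlen]
    have e : ∀ t ∈ Finset.range 133, ((X >>> (20 * (0 + t))) &&& colM) * l.getD t 0 =
        ∑ r ∈ Finset.range 133, ∑ j ∈ Finset.range 133,
          entry X r t * digit 20 (l.getD t 0) j * (2 ^ 20) ^ j * (2 ^ rowBits) ^ r := fun t ht => by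
      rw [Finset.mem_range] at ht
      rw [zero_add, col_eq hX ht, Finset.sum_mul]
      refine Finset.sum_congr rfl fun r _ => ?_
      conv_lhs => rw [eq_sum_digit (b := 20) 133 (l.getD t 0) (pow_row ▸ (hd t ht).1)]
      rw [Finset.mul_sum]
      exact Finset.sum_congr rfl fun j _ => by ring
    rw [Finset.sum_congr rfl e, Finset.sum_comm]
    refine Finset.sum_congr rfl fun r _ => ?_
    rw [Finset.sum_comm, Finset.sum_mul]
    refine Finset.sum_congr rfl fun j _ => ?_
    rw [hs]
    simp only [Finset.sum_mul]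
  obtain ⟨h1, h2⟩ := reduceMat_spec hS hbound hne
  refine ⟨h1, Matrix.ext fun r j => ?_⟩
  rw [Matrix.mul_apply]
  show (entry (mulMat X l) r j : ZMod 41) = _
  rw [show mulMat X l = reduceMat (prodFold l X 0 0) from rfl, h2 r r.2 j j.2, hs]
  simp only [Nat.cast_sum, Nat.cast_mul]
  rw [Finset.sum_range]
  rfl

end Cfsg.Agent.Spor.Cos.HNSub.Mat133
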