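import Cfsg.Agent.Lib.Spor.Cos.HNSub.TabData
import Cfsg.Prelude.Def_Spor_HN

/-!
The presented Harada–Norton group times two groups of permutations, and six letters in it for the first three
generators and their inverses.
-/

set_option autoImplicit false
set_option maxRecDepth 100000
set_option linter.unusedSimpArgs false

open Cfsg.Spor

namespace Cfsg.Agent.Spor.Cos.HNSub

/-- The product. -/
abbrev Gp : Type := Spor.HN × (Equiv.Perm (Fin act1408.N) × Equiv.Perm (Fin act100.N))

/-- The first three generators. -/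
noncomputable def hgen : ℕ → Spor.HN
  | 0 => PresentedGroup.of HN.Gen.x
  | 1 => PresentedGroup.of HN.Gen.y
  | 2 => PresentedGroup.of HN.Gen.z
  | _ => 1

/-- The letters in the presented group. -/
noncomputable def gHN (s : ℕ) : Spor.HN := bif Nat.beq (s % 2) 0 then hgen (s / 2) else (hgen (s / 2))⁻¹

theorem gHN_paired : Paired gHN := by
  intro s
  rcases Nat.mod_two_eq_zero_or_one s with h | h
  · rw [Nat.xor_one_of_even (Nat.even_iff.2 h)]
    simp [gHN, h, show (s + 1) % 2 = 1 by omega, show (s + 1) / 2 = s / 2 by omega, show Nat.beq 1 0 = false from rfl]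
  · rw [Nat.xor_one_of_odd (Nat.odd_iff.2 h)]
    simp [gHN, h, show (s - 1) % 2 = 0 by omega, show (s - 1) / 2 = s / 2 by omega, show Nat.beq 1 0 = false from rfl]

/-- The letters. -/
noncomputable def g (s : ℕ) : Gp := (gHN s, act1408.permP s, act100.permP s)

theorem g_paired : Paired g := fun s =>
  Prod.ext (gHN_paired s) (Prod.ext (act1408.permP_paired s) (act100.permP_paired s))

/-- The action on 1408 points. -/
def piA : Gp →* Equiv.Perm (Fin act1408.N) := (MonoidHom.fst _ _).comp (MonoidHom.snd _ _)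

/-- The action on 100 points. -/
def piB : Gp →* Equiv.Perm (Fin act100.N) := (MonoidHom.snd _ _).comp (MonoidHom.snd _ _)

/-- The map to the presented group. -/
def toHN : Gp →* Spor.HN := MonoidHom.fst _ _

theorem act1408_inv : ∀ p < act1408.N, act1408.chkInvP p = true := by
  refine of_blocks (size := 128) (b := 11) (by decide) (by decide) fun j hj => ?_
  interval_cases j <;> decide +kernel

theorem act100_inv : ∀ p < act100.N, act100.chkInvP p = true := by
  refine of_blocks (size := 100) (b := 1) (by decide) (by decide) fun j hj => ?_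
  interval_cases j
  decide +kernel

theorem homA : act1408.HomP g piA := ⟨rfl, act1408_inv, fun _ => rfl⟩

theorem homB : act100.HomP g piB := ⟨rfl, act100_inv, fun _ => rfl⟩

/-- The ten relators as words. -/
def relWords : List (List ℕ) := [
  [2, 2, 2, 2, 2, 2],
  [0, 0, 2, 0, 0, 3],
  (List.replicate 3 [1, 3, 0, 2]).flatten,
  (List.replicate 3 [1, 2, 2, 0, 2, 2, 2]).flatten,
  (List.replicate 8 [0, 2]).flatten,
  (List.replicate 4 [0, 2, 0, 2, 2, 2]).flatten,
  [4, 4],
  [4, 0, 4, 0],
  [5] ++ invWord [2, 0, 2, 0, 2, 2, 0, 3] ++ [4] ++ [2, 0, 2, 0, 2, 2, 0, 3] ++ [1, 1],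
  [4] ++ (List.replicate 3 (invWord [2, 2, 2, 0, 2, 0, 2] ++ [4] ++ [2, 2, 2, 0, 2, 0, 2] ++ [0])).flatten]

theorem relWords_letters : Act.lettersOk 6 relWords = true := by decide +kernel

theorem rels_A : ∀ p < act1408.N, act1408.chkFixP relWords p = true := by
  refine of_blocks (size := 128) (b := 11) (by decide) (by decide) fun j hj => ?_
  interval_cases j <;> decide +kernel

theorem rels_B : ∀ p < act100.N, act100.chkFixP relWords p = true := by
  refine of_blocks (size := 100) (b := 1) (by decide) (by decide) fun j hj => ?_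
  interval_cases j
  decide +kernel

theorem mk_rel {r : FreeGroup HN.Gen} (h : r ∈ HN.extra) :
    (PresentedGroup.mk (coxRelators HN.edges ∪ {r | r ∈ HN.extra}) r : Spor.HN) = 1 :=
  PresentedGroup.one_of_mem (Or.inr h)

theorem rels_HN : ∀ w ∈ relWords, ev gHN w = 1 := by
  set x : Spor.HN := PresentedGroup.of HN.Gen.x with hx
  set y : Spor.HN := PresentedGroup.of HN.Gen.y with hy
  set z : Spor.HN := PresentedGroup.of HN.Gen.z with hz
  have e0 : gHN 0 = x := rfl
  have e1 : gHN 1 = x⁻¹ := rfl
  have e2 : gHN 2 = y := rfl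
  have e3 : gHN 3 = y⁻¹ := rfl
  have e4 : gHN 4 = z := rfl
  have e5 : gHN 5 = z⁻¹ := rfl
  intro w hw
  simp only [relWords, List.mem_cons, List.not_mem_nil, or_false] at hw
  rcases hw with rfl | rfl | rfl | rfl | rfl | rfl | rfl | rfl | rfl | rfl
  · have h := mk_rel (r := HN.y ^ 6) (by simp [HN.extra])
    simp only [map_mul, map_inv, map_pow] at h
    try simp only [ev_append, ev_power, ev_invWord gHN_paired]
    simp only [ev, e0, e1, e2, e3, e4, e5]
    refine Eq.trans ?_ h
    simp [pow_succ, mul_assoc, hx, hy, hz, PresentedGroup.of]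
  · have h := mk_rel (r := (HN.x ^ 2) * HN.y * (HN.x ^ 2) * (HN.y⁻¹)) (by simp [HN.extra])
    simp only [map_mul, map_inv, map_pow] at h
    try simp only [ev_append, ev_power, ev_invWord gHN_paired]
    simp only [ev, e0, e1, e2, e3, e4, e5]
    refine Eq.trans ?_ h
    simp [pow_succ, mul_assoc, hx, hy, hz, PresentedGroup.of]
  · have h := mk_rel (r := (HN.x⁻¹ * HN.y⁻¹ * HN.x * HN.y) ^ 3) (by simp [HN.extra])
    simp only [map_mul, map_inv, map_pow] at h
    try simp only [ev_append, ev_power, ev_invWord gHN_paired]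
    simp only [ev, e0, e1, e2, e3, e4, e5]
    refine Eq.trans ?_ h
    simp [pow_succ, mul_assoc, hx, hy, hz, PresentedGroup.of]
  · have h := mk_rel (r := ((HN.x⁻¹) * (HN.y ^ 2) * HN.x * (HN.y ^ 3)) ^ 3) (by simp [HN.extra])
    simp only [map_mul, map_inv, map_pow] at h
    try simp only [ev_append, ev_power, ev_invWord gHN_paired]
    simp only [ev, e0, e1, e2, e3, e4, e5]
    refine Eq.trans ?_ h
    simp [pow_succ, mul_assoc, hx, hy, hz, PresentedGroup.of]
  · have h := mk_rel (r := (HN.x * HN.y) ^ 8) (by simp [HN.extra])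
    simp only [map_mul, map_inv, map_pow] at h
    try simp only [ev_append, ev_power, ev_invWord gHN_paired]
    simp only [ev, e0, e1, e2, e3, e4, e5]
    refine Eq.trans ?_ h
    simp [pow_succ, mul_assoc, hx, hy, hz, PresentedGroup.of]
  · have h := mk_rel (r := (HN.x * HN.y * HN.x * (HN.y ^ 3)) ^ 4) (by simp [HN.extra])
    simp only [map_mul, map_inv, map_pow] at h
    try simp only [ev_append, ev_power, ev_invWord gHN_paired]
    simp only [ev, e0, e1, e2, e3, e4, e5]
    refine Eq.trans ?_ h
    simp [pow_succ, mul_assoc, hx, hy, hz, PresentedGroup.of]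
  · have h := mk_rel (r := HN.z ^ 2) (by simp [HN.extra])
    simp only [map_mul, map_inv, map_pow] at h
    try simp only [ev_append, ev_power, ev_invWord gHN_paired]
    simp only [ev, e0, e1, e2, e3, e4, e5]
    refine Eq.trans ?_ h
    simp [pow_succ, mul_assoc, hx, hy, hz, PresentedGroup.of]
  · have h := mk_rel (r := (HN.z * HN.x) ^ 2) (by simp [HN.extra])
    simp only [map_mul, map_inv, map_pow] at h
    try simp only [ev_append, ev_power, ev_invWord gHN_paired]
    simp only [ev, e0, e1, e2, e3, e4, e5]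
    refine Eq.trans ?_ h
    simp [pow_succ, mul_assoc, hx, hy, hz, PresentedGroup.of]
  · have h := mk_rel (r := (HN.z⁻¹ * (HN.y * HN.x * HN.y * HN.x * (HN.y ^ 2) * HN.x * (HN.y⁻¹))⁻¹ * HN.z * (HN.y * HN.x * HN.y * HN.x * (HN.y ^ 2) * HN.x * (HN.y⁻¹))) * ((HN.x ^ 2)⁻¹)) (by simp [HN.extra])
    simp only [map_mul, map_inv, map_pow] at h
    try simp only [ev_append, ev_power, ev_invWord gHN_paired]
    simp only [ev, e0, e1, e2, e3, e4, e5]
    refine Eq.trans ?_ h
    simp [pow_succ, mul_assoc, hx, hy, hz, PresentedGroup.of]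
  · have h := mk_rel (r := HN.z * ((((((HN.y ^ 3) * HN.x * HN.y * HN.x * HN.y))⁻¹ * HN.z * ((HN.y ^ 3) * HN.x * HN.y * HN.x * HN.y)) * HN.x) ^ 3)) (by simp [HN.extra])
    simp only [map_mul, map_inv, map_pow] at h
    try simp only [ev_append, ev_power, ev_invWord gHN_paired]
    simp only [ev, e0, e1, e2, e3, e4, e5]
    refine Eq.trans ?_ h
    simp [pow_succ, mul_assoc, hx, hy, hz, PresentedGroup.of]

theorem rel_holds : ∀ w ∈ relWords, ev g w = 1 := by
  intro w hw
  have hA := act1408.evP_rels rfl act1408_inv relWords_letters rels_A w hw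
  have hB := act100.evP_rels rfl act100_inv relWords_letters rels_B w hw
  refine Prod.ext ?_ (Prod.ext ?_ ?_)
  · rw [show (ev g w).1 = toHN (ev g w) from rfl, ev_map]
    exact rels_HN w hw
  · rw [show (ev g w).2.1 = piA (ev g w) from rfl, ev_map]
    exact hA
  · rw [show (ev g w).2.2 = piB (ev g w) from rfl, ev_map]
    exact hB

end Cfsg.Agent.Spor.Cos.HNSub
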