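import Cfsg.Agent.Lib.Spor.Cos.HNSub.Setting
import Cfsg.Agent.Lib.Spor.Cos.HNSub.ImgData

/-!
Two small subgroups whose elements are told apart by the images of a few points.
-/

set_option autoImplicit false
set_option maxRecDepth 100000

namespace Cfsg.Agent.Spor.Cos.HNSub

/-- Elements given by a parent and a word from the left, and by images of some points. -/
structure PImg where
  /-- the words -/
  ws : List (List ℕ)
  /-- the points -/
  pts : List ℕ
  /-- the number of elements -/
  N : ℕ
  /-- parent and word of each element after the first, at `2 ^ 0` and `2 ^ 16` -/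
  steps : Table
  /-- the images, sixteen bits each -/
  vals : Table
  /-- an increasing order -/
  order : Table

namespace PImg

/-- The packed images under a word of packed points. -/
noncomputable def push (w : List ℕ) : ℕ → ℕ → ℕ
  | 0, _ => 0
  | k + 1, v => force (act1408.goP w (v % 65536)) fun q => q + 65536 * push w k (v / 65536)

/-- The packed images of the listed points under a permutation. -/
noncomputable def image (σ : Equiv.Perm (Fin act1408.N)) : List ℕ → ℕ
  | [] => 0
  | p :: ps => (if h : p < act1408.N then (σ ⟨p, h⟩ : ℕ) else 0) + 65536 * image σ ps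

theorem push_image {w : List ℕ} (hw : ∀ s ∈ w, s < 6) (y : Gp) :
    ∀ ps : List ℕ, (∀ p ∈ ps, p < act1408.N) →
      push w ps.length (image (piA y) ps) = image (piA (ev g w * y)) ps
  | [], _ => rfl
  | p :: ps, h => by
    have hp := h p (List.mem_cons_self ..)
    simp only [image, dif_pos hp, List.length_cons, push, force_eq]
    have hlt : (piA y ⟨p, hp⟩ : ℕ) < 65536 := lt_trans (piA y ⟨p, hp⟩).2 (by decide)
    rw [show ((piA y ⟨p, hp⟩ : ℕ) + 65536 * image (piA y) ps) % 65536 = (piA y ⟨p, hp⟩ : ℕ) by omega,
      show ((piA y ⟨p, hp⟩ : ℕ) + 65536 * image (piA y) ps) / 65536 = image (piA y) ps by omega,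
      push_image hw y ps fun q hq => h q (List.mem_cons_of_mem _ hq), map_mul, Equiv.Perm.mul_apply,
      homA.apply_ev w hw]

theorem image_congr {σ τ : Equiv.Perm (Fin act1408.N)} (h : σ = τ) (ps : List ℕ) : image σ ps = image τ ps := by
  rw [h]

variable (I : PImg)

/-- One step. -/
noncomputable def chkStep (j : ℕ) : Bool :=
  force (I.steps.at j) fun r => force (r % 65536) fun a => force (r >>> 16) fun s => force (I.vals.at a) fun v =>
    Nat.ble a j && Nat.blt s I.ws.length && (I.ws.getD s []).all (fun t => Nat.blt t 6) &&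
      Nat.beq (push (I.ws.getD s []) I.pts.length v) (I.vals.at (j + 1))

/-- One place of the order. -/
noncomputable def chkOrd (j : ℕ) : Bool :=
  force (I.order.at j) fun i => force (I.order.at (j + 1)) fun i' =>
    Nat.blt i I.N && (Nat.beq (j + 1) I.N || force (I.vals.at i) fun v => Nat.blt v (I.vals.at i'))

/-- All checks. -/
structure Ok : Prop where
  pts : ∀ p ∈ I.pts, p < act1408.N
  root : 0 < I.N ∧ I.vals.at 0 = I.pts.foldr (fun p r => p + 65536 * r) 0
  step : ∀ j < I.N - 1, I.chkStep j = true
  ord : ∀ j < I.N, I.chkOrd j = true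

variable {I}

theorem image_one : ∀ ps : List ℕ, (∀ p ∈ ps, p < act1408.N) →
    image 1 ps = ps.foldr (fun p r => p + 65536 * r) 0
  | [], _ => rfl
  | p :: ps, h => by
    simp [image, dif_pos (h p (List.mem_cons_self ..)), image_one ps fun q hq => h q (List.mem_cons_of_mem _ hq)]

theorem Ok.reach (hc : I.Ok) : ∀ b < I.N, ∃ z ∈ val g I.ws, image (piA z) I.pts = I.vals.at b := by
  intro b
  induction b using Nat.strong_induction_on with
  | _ b ih =>
    intro hb
    rcases b with _ | b
    · exact ⟨1, one_mem _, by rw [map_one, image_one _ hc.pts, hc.root.2]⟩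
    · have h := hc.step b (by omega)
      simp only [chkStep, force_eq, Bool.and_eq_true, Nat.ble_eq, Nat.blt_eq, Nat.beq_eq, List.all_eq_true] at h
      obtain ⟨⟨⟨ha, hl⟩, hlet⟩, he⟩ := h
      obtain ⟨z, hz, hp⟩ := ih _ (Nat.lt_succ_of_le ha) (by omega)
      refine ⟨ev g (I.ws.getD (I.steps.at b >>> 16) []) * z, mul_mem (mem_val ?_) hz, ?_⟩
      · rw [List.getD_eq_getElem _ _ hl]; exact List.getElem_mem _
      · rw [← he, ← hp, push_image hlet _ _ hc.pts]

/-- Elements with different images. -/
theorem Ok.exists_sep (hc : I.Ok) :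
    ∃ f : Fin I.N → val g I.ws, Function.Injective fun j => image (piA (f j : Gp)) I.pts := by
  have hm := hc.reach
  choose z hz hp using hm
  have ho : ∀ j < I.N, I.order.at j < I.N ∧
      (j + 1 = I.N ∨ I.vals.at (I.order.at j) < I.vals.at (I.order.at (j + 1))) := fun j hj => by
    have h := hc.ord j hj
    simp only [chkOrd, force_eq, Bool.and_eq_true, Bool.or_eq_true, Nat.blt_eq, Nat.beq_eq] at h
    exact h
  refine ⟨fun j => ⟨z _ (ho j j.2).1, hz _ (ho j j.2).1⟩, ?_⟩
  have hmono : ∀ a b : ℕ, a < b → b < I.N → I.vals.at (I.order.at a) < I.vals.at (I.order.at b) := by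
    intro a b hab
    induction b with
    | zero => omega
    | succ b ih =>
      intro hb'
      have h1 : I.vals.at (I.order.at b) < I.vals.at (I.order.at (b + 1)) :=
        ((ho b (by omega)).2).resolve_left (by omega)
      rcases Nat.lt_succ_iff_lt_or_eq.1 hab with h | rfl
      · exact (ih h (by omega)).trans h1
      · exact h1
  intro a b h
  simp only [hp] at h
  rcases Nat.lt_trichotomy a.1 b.1 with hl | hl | hl
  · exact absurd h (hmono _ _ hl b.2).ne
  · exact Fin.ext hl
  · exact absurd h.symm (hmono _ _ hl a.2).ne

/-- An element of a subgroup no larger that fixes the points is trivial. -/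
theorem Ok.eq_one_of_fix (hc : I.Ok) (hb : BoundW g I.ws I.N) {z : Gp} (hz : z ∈ val g I.ws)
    (hfix : image (piA z) I.pts = image 1 I.pts) : z = 1 := by
  obtain ⟨hfin, hcard⟩ := hb
  obtain ⟨f, hf⟩ := hc.exists_sep
  have hfi : Function.Injective f := fun a b h => hf (by simp only [h])
  have hsurj : Function.Surjective f := ((Nat.bijective_iff_injective_and_card f).2
    ⟨hfi, le_antisymm (Nat.card_le_card_of_injective f hfi) (hcard.trans_eq (Nat.card_fin _).symm)⟩).2
  obtain ⟨a, ha⟩ := hsurj ⟨z, hz⟩
  obtain ⟨b, hb⟩ := hsurj 1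
  have hab : a = b := hf (by simp only [ha, hb, OneMemClass.coe_one, map_one, hfix])
  have := ha.symm.trans ((congrArg f hab).trans hb)
  exact congrArg Subtype.val this

/-- There are at least as many permutations as listed images. -/
theorem Ok.card_map (hc : I.Ok) : I.N ≤ Nat.card ((val g I.ws).map piA) := by
  obtain ⟨f, hf⟩ := hc.exists_sep
  let e : Fin I.N → (val g I.ws).map piA := fun j => ⟨piA (f j : Gp), Subgroup.mem_map.2 ⟨_, (f j).2, rfl⟩⟩
  have he : Function.Injective e := fun a b h => hf (image_congr (congrArg Subtype.val h) I.pts)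
  exact (Nat.card_fin _).symm.trans_le (Nat.card_le_card_of_injective e he)

end PImg

/-- The subgroup of order 48. -/
def imgD : PImg := ⟨[[0], [2, 2, 2]], imgDPts, 48, imgDSteps, imgDVals, imgDOrder⟩

/-- The subgroup of the first generator and the square of the second. -/
def imgW : PImg := ⟨[[0], [2, 2]], imgWPts, 10080, imgWSteps, imgWVals, imgWOrder⟩

theorem imgD_ok : imgD.Ok where
  pts := by decide +kernel
  root := by decide +kernel
  step i hi := of_allBlock (size := 48) (n := 47) (by decide) (fun j hj => by
    obtain rfl : j = 0 := by omega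
    decide +kernel) hi
  ord i hi := of_allBlock (size := 48) (n := 48) (by decide) (fun j hj => by
    obtain rfl : j = 0 := by omega
    decide +kernel) hi

theorem imgW_step : ∀ i < 10079, imgW.chkStep i = true := by
  refine of_blocks (size := 512) (b := 20) (by decide) (by decide) fun j hj => ?_
  interval_cases j <;> decide +kernel

theorem imgW_ord : ∀ i < 10080, imgW.chkOrd i = true := by
  refine of_blocks (size := 512) (b := 20) (by decide) (by decide) fun j hj => ?_
  interval_cases j <;> decide +kernel

theorem imgW_ok : imgW.Ok where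
  pts := by decide +kernel
  root := by decide +kernel
  step := imgW_step
  ord := imgW_ord

end Cfsg.Agent.Spor.Cos.HNSub
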